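import Cfsg.Agent.Lib.MonsterType.Cross
import Cfsg.Agent.Lib.Leech.Xi

/-!
Lattice automorphisms given by an orthogonal matrix with entries in eighths.
-/

set_option autoImplicit false

namespace Cfsg.Agent.Lib.MonsterType

open Cfsg
open Cfsg.Agent.Lib
open Cfsg.Agent.Lib.Leech

/-- The explicit generators of the lattice. -/
def leechGen : Set (GolayPt → ℤ) :=
  Set.range vec44 ∪ Set.range (fun t => lift2 (qrWord t)) ∪ {lift2 1, vec31 none}

theorem vec44_mem_closure (i : GolayPt) : vec44 i ∈ AddSubgroup.closure leechGen :=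
  AddSubgroup.subset_closure (Or.inl (Or.inl ⟨i, rfl⟩))

theorem four_even_mem_closure {z : GolayPt → ℤ} (hz : (2 : ℤ) ∣ ∑ i, z i) :
    (fun i => 4 * z i) ∈ AddSubgroup.closure leechGen := by
  obtain ⟨k, hk⟩ := hz
  have : (fun i => 4 * z i) = ∑ i, z i • vec44 i + (-k) • vec44 none := by
    funext j
    simp only [Pi.add_apply, Finset.sum_apply, Pi.smul_apply, smul_eq_mul, vec44, mul_add,
      Finset.sum_add_distrib, mul_ite, mul_zero, Finset.sum_ite_eq, Finset.mem_univ, if_true]
    by_cases hj : j = none
    · simp only [hj, if_true]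
      rw [← Finset.sum_mul, hk]; ring
    · simp only [hj, if_false, Finset.sum_const_zero]; ring
  rw [this]
  exact add_mem (sum_mem fun i _ => zsmul_mem (vec44_mem_closure i) _)
    (zsmul_mem (vec44_mem_closure none) _)

theorem lift2_mem_closure {c : GolayPt → ZMod 2} (hc : c ∈ golayCode) :
    lift2 c ∈ AddSubgroup.closure leechGen := by
  induction hc using Submodule.span_induction with
  | mem c hc =>
    rcases hc with ⟨t, rfl⟩ | rfl
    · exact AddSubgroup.subset_closure (Or.inl (Or.inr ⟨t, rfl⟩))
    · exact AddSubgroup.subset_closure (Or.inr (Or.inl rfl))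
  | zero =>
    rw [show lift2 0 = 0 from funext fun i => by simp [lift2]]
    exact zero_mem _
  | add a b ha hb iha ihb =>
    have hdot := code_dot ha hb
    have e : lift2 (a + b) = lift2 a + lift2 b - fun i => 4 * ((a i * b i).val : ℤ) := by
      funext i
      simp only [lift2, Pi.add_apply, Pi.sub_apply]
      rcases Leech.zmod2_cases (a i) with h | h <;> rcases Leech.zmod2_cases (b i) with h' | h' <;>
        rw [h, h'] <;> rfl
    rw [e]
    refine sub_mem (add_mem iha ihb) (four_even_mem_closure ?_)
    refine (ZMod.intCast_zmod_eq_zero_iff_dvd _ 2).1 (Eq.trans ?_ hdot)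
    rw [Int.cast_sum]
    exact Finset.sum_congr rfl fun i _ => by simp
  | smul r a _ iha =>
    rcases Leech.zmod2_cases r with rfl | rfl
    · rw [zero_smul, show lift2 0 = 0 from funext fun i => by simp [lift2]]; exact zero_mem _
    · rwa [one_smul]

theorem even_mem_closure {x : GolayPt → ℤ} (hx : x ∈ leechLattice) (h0 : ∀ i, x i % 2 = 0) :
    x ∈ AddSubgroup.closure leechGen := by
  obtain ⟨m, y, hm, hxy, hy, hc⟩ := exists_half hx
  obtain rfl : m = 0 := by
    have := hxy none; have := h0 none; rcases hm with rfl | rfl <;> omega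
  let c : GolayPt → ZMod 2 := fun i => (y i : ZMod 2)
  have hval : ∀ i, ((c i).val : ℤ) = y i % 2 := fun i => by
    simp only [c]; rw [ZMod.val_intCast]; rfl
  let z : GolayPt → ℤ := fun i => y i / 2
  have e : x = lift2 c + fun i => 4 * z i := funext fun i => by
    simp only [lift2, Pi.add_apply, hval, z, hxy i]; omega
  rw [e]
  refine add_mem (lift2_mem_closure hc) (four_even_mem_closure ?_)
  have hs : ∑ i, y i = 2 * (∑ i, z i) + ∑ i, ((c i).val : ℤ) := by
    rw [Finset.mul_sum, ← Finset.sum_add_distrib]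
    exact Finset.sum_congr rfl fun i _ => by rw [hval]; simp only [z]; omega
  have hcard : ∑ i, ((c i).val : ℤ) = ((support₂ c).card : ℤ) := by
    rw [support₂, Finset.card_filter, Nat.cast_sum]
    exact Finset.sum_congr rfl fun i _ => by
      rcases Leech.zmod2_cases (c i) with h | h <;> rw [h] <;> rfl
  obtain ⟨k, hk⟩ := code_weight_dvd hc
  change (support₂ c).card = _ at hk
  omega

theorem mem_closure_leechGen {x : GolayPt → ℤ} (hx : x ∈ leechLattice) :
    x ∈ AddSubgroup.closure leechGen := by
  have hv : vec31 none ∈ AddSubgroup.closure leechGen := AddSubgroup.subset_closure (Or.inr (Or.inr rfl))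
  rcases mem_leech_iff.1 hx with ⟨p, -, -⟩ | ⟨p, -, -⟩
  · exact even_mem_closure hx p
  · have := even_mem_closure (sub_mem hx (vec31_mem none)) fun i => by
      have := p i
      simp only [Pi.sub_apply, vec31]
      split <;> omega
    simpa using add_mem this hv

/-- The matrix product before division by 8. -/
def matNum (M : GolayPt → GolayPt → ℤ) (x : GolayPt → ℤ) : GolayPt → ℤ :=
  fun i => ∑ j, x j * M j i

/-- The map with matrix `M / 8`, `M j` being the image of `8 e_j`. -/
def matMap (M : GolayPt → GolayPt → ℤ) (x : GolayPt → ℤ) : GolayPt → ℤ :=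
  fun i => matNum M x i / 8

/-- The test on one vector. -/
def matChk (M : GolayPt → GolayPt → ℤ) (x : GolayPt → ℤ) : Bool :=
  decide (∀ i, matNum M x i % 8 = 0) && leechChk (matMap M x)

theorem matNum_add (M : GolayPt → GolayPt → ℤ) (x y : GolayPt → ℤ) :
    matNum M (x + y) = matNum M x + matNum M y := by
  funext i
  simp only [matNum, Pi.add_apply, add_mul, Finset.sum_add_distrib]

/-- The vectors with lattice image. -/
def matGood (M : GolayPt → GolayPt → ℤ) : AddSubgroup (GolayPt → ℤ) where
  carrier := {x | ∃ y ∈ leechLattice, matNum M x = (8 : ℤ) • y}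
  add_mem' := by
    rintro a b ⟨y, hy, e⟩ ⟨y', hy', e'⟩
    exact ⟨y + y', add_mem hy hy', by rw [matNum_add, e, e', smul_add]⟩
  zero_mem' := ⟨0, zero_mem _, funext fun i => by simp [matNum]⟩
  neg_mem' := by
    rintro a ⟨y, hy, e⟩
    refine ⟨-y, neg_mem hy, ?_⟩
    rw [smul_neg, ← e]
    funext i
    simp [matNum]

/-- The checks on the generators. -/
def matOk (M : GolayPt → GolayPt → ℤ) : Prop :=
  (∀ i, matChk M (vec44 i) = true) ∧ (∀ t, matChk M (lift2 (qrWord t)) = true) ∧
    matChk M (lift2 1) = true ∧ matChk M (vec31 none) = true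

theorem matGood_of_chk {M : GolayPt → GolayPt → ℤ} {x : GolayPt → ℤ} (h : matChk M x = true) :
    x ∈ matGood M := by
  simp only [matChk, Bool.and_eq_true, decide_eq_true_eq] at h
  refine ⟨matMap M x, leechChk_sound h.2, funext fun i => ?_⟩
  have := h.1 i
  simp only [Pi.smul_apply, smul_eq_mul, matMap]
  omega

theorem mem_matGood {M : GolayPt → GolayPt → ℤ} (h : matOk M) {x : GolayPt → ℤ}
    (hx : x ∈ leechLattice) : x ∈ matGood M := by
  refine (AddSubgroup.closure_le (matGood M)).2 ?_ (mem_closure_leechGen hx)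
  rintro _ ((⟨i, rfl⟩ | ⟨t, rfl⟩) | rfl | rfl)
  exacts [matGood_of_chk (h.1 i), matGood_of_chk (h.2.1 t), matGood_of_chk h.2.2.1,
    matGood_of_chk h.2.2.2]

theorem matMap_spec {M : GolayPt → GolayPt → ℤ} (h : matOk M) {x : GolayPt → ℤ}
    (hx : x ∈ leechLattice) : matMap M x ∈ leechLattice ∧ matNum M x = (8 : ℤ) • matMap M x := by
  obtain ⟨y, hy, e⟩ := mem_matGood h hx
  have : matMap M x = y := funext fun i => by
    simp only [matMap, e, Pi.smul_apply, smul_eq_mul]; omega
  rw [this]
  exact ⟨hy, e⟩

theorem matNum_smul (M : GolayPt → GolayPt → ℤ) (c : ℤ) (x : GolayPt → ℤ) :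
    matNum M (c • x) = c • matNum M x := by
  funext i
  simp only [matNum, Pi.smul_apply, smul_eq_mul, Finset.mul_sum]
  exact Finset.sum_congr rfl fun j _ => by ring

theorem matNum_matNum {M N : GolayPt → GolayPt → ℤ}
    (hMN : ∀ j k, (∑ i, M j i * N i k) = if j = k then 64 else 0) (x : GolayPt → ℤ) :
    matNum N (matNum M x) = (64 : ℤ) • x := by
  funext k
  simp only [matNum, Finset.sum_mul, Pi.smul_apply, smul_eq_mul]
  rw [Finset.sum_comm]
  rw [Finset.sum_eq_single k]
  · have := hMN k k
    rw [if_pos rfl] at this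
    rw [← this, Finset.sum_mul]
    exact Finset.sum_congr rfl fun i _ => by ring
  · intro j _ hj
    rw [show (∑ i, x j * M j i * N i k) = x j * ∑ i, M j i * N i k by
      rw [Finset.mul_sum]; exact Finset.sum_congr rfl fun i _ => by ring, hMN, if_neg hj, mul_zero]
  · simp

theorem sum_sq_matNum {M : GolayPt → GolayPt → ℤ}
    (hM : ∀ j k, (∑ i, M j i * M k i) = if j = k then 64 else 0) (x : GolayPt → ℤ) :
    sqNorm (matNum M x) = 64 * sqNorm x := by
  have e := matNum_matNum (M := M) (N := fun i k => M k i) hM x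
  have : sqNorm (matNum M x) = ∑ k, x k * matNum (fun i k => M k i) (matNum M x) k := by
    simp only [sqNorm, pow_two]
    conv_lhs => arg 2; ext i; arg 1; rw [matNum]
    simp only [Finset.sum_mul]
    rw [Finset.sum_comm]
    refine Finset.sum_congr rfl fun k _ => ?_
    simp only [matNum, Finset.mul_sum]
    refine Finset.sum_congr rfl fun i _ => ?_
    simp only [Finset.sum_mul, Finset.mul_sum]
    exact Finset.sum_congr rfl fun j _ => by ring
  rw [this, e, sqNorm, Finset.mul_sum]
  exact Finset.sum_congr rfl fun k _ => by simp only [Pi.smul_apply, smul_eq_mul]; ring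

theorem matMap_left_inv {M N : GolayPt → GolayPt → ℤ} (hM : matOk M) (hN : matOk N)
    (hMN : ∀ j k, (∑ i, M j i * N i k) = if j = k then 64 else 0) {x : GolayPt → ℤ}
    (hx : x ∈ leechLattice) : matMap N (matMap M x) = x := by
  obtain ⟨h1, e1⟩ := matMap_spec hM hx
  obtain ⟨-, e2⟩ := matMap_spec hN h1
  funext i
  have := congrFun (matNum_matNum hMN x) i
  rw [e1, matNum_smul, e2] at this
  simp only [Pi.smul_apply, smul_eq_mul] at this
  omega

/-- The automorphism with matrix `M / 8`. -/
def matCo (M : GolayPt → GolayPt → ℤ) (hM : matOk M) (hT : matOk fun i k => M k i)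
    (h1 : ∀ j k, (∑ i, M j i * M k i) = if j = k then 64 else 0)
    (h2 : ∀ j k, (∑ i, M i j * M i k) = if j = k then 64 else 0) : Co0 :=
  mkCo (matMap M) (matMap fun i k => M k i) (fun _ hx => (matMap_spec hM hx).1)
    (fun _ hx => (matMap_spec hT hx).1) (fun _ hx => matMap_left_inv hM hT h1 hx)
    (fun _ hx => matMap_left_inv hT hM h2 hx)
    (fun x hx y hy => by
      have e := matNum_add M x y
      funext i
      have := congrFun e i
      rw [(matMap_spec hM hx).2, (matMap_spec hM hy).2, (matMap_spec hM (add_mem hx hy)).2] at this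
      simp only [Pi.add_apply, Pi.smul_apply, smul_eq_mul] at this ⊢
      omega)
    (fun x hx => by
      have e := sum_sq_matNum h1 x
      rw [(matMap_spec hM hx).2] at e
      have : sqNorm ((8 : ℤ) • matMap M x) = 64 * sqNorm (matMap M x) := by
        simp only [sqNorm, Finset.mul_sum]
        exact Finset.sum_congr rfl fun i _ => by simp only [Pi.smul_apply, smul_eq_mul]; ring
      omega)

end Cfsg.Agent.Lib.MonsterType
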