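import Cfsg.Agent.Lib.MonsterType.Type32
import Cfsg.Agent.Lib.CharTwo.Local
import Cfsg.Agent.Lib.LargeES.Heisenberg

/-!
The centraliser of an element of type 32 modulo that element is of Baby Monster type.
-/

set_option autoImplicit false

namespace Cfsg.Agent.Lib.MonsterType

open Cfsg
open Cfsg.Agent.Lib
open Cfsg.Agent.Lib.Leech
open Cfsg.Agent.Lib.LargeExtra

/-- A central-type element of an extraspecial group has centraliser of index 2. -/
theorem card_inf_centralizer {G : Type*} [Group G] [Finite G] {X : Subgroup G} {x y : G}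
    (h : Good X x) (hy : y ∈ X) (hyx : y ∉ Subgroup.zpowers x) :
    2 * Nat.card ↥(X ⊓ Subgroup.centralizer ({y} : Set G)) = Nat.card X := by
  have hs : Subgroup.zpowers x ≤ X := Subgroup.zpowers_le.2 h.x_mem
  let T : Subgroup G := extend h (Subgroup.zpowers x) hs (Subgroup.mem_zpowers x) y hy
  have hT : Nat.card T = 4 := by
    rw [card_extend _ _ hs _ _ _ hyx, Nat.card_zpowers,
      orderOf_eq_prime (p := 2) (by rw [pow_two, h.x_sq]) h.x_ne]
  have hset : centIn X T = ((X ⊓ Subgroup.centralizer ({y} : Set G) : Subgroup G) : Set G) := by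
    ext q
    simp only [centIn, Set.mem_ofPred_eq, SetLike.mem_coe, Subgroup.mem_inf]
    constructor
    · rintro ⟨hq, h'⟩
      exact ⟨hq, Subgroup.mem_centralizer_singleton_iff.2 (h' y (self_mem_extend _ _ hs _ _ _))⟩
    · rintro ⟨hq, h'⟩
      refine ⟨hq, fun a ha => ?_⟩
      have hqx : ∀ b ∈ Subgroup.zpowers x, Commute q b := by
        intro b hb
        obtain ⟨i, rfl⟩ := Subgroup.mem_zpowers_iff.1 hb
        exact Commute.zpow_right (h.le_cent q hq) i
      rcases ha with ha | ha
      · exact (hqx a ha).eq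
      · have := Commute.mul_right (Subgroup.mem_centralizer_singleton_iff.1 h' : Commute q y) (hqx _ ha)
        rwa [mul_inv_cancel_left] at this
  have h1 := mul_centIn_le h T (extend_le _ _ hs _ _ _) (le_extend _ _ hs _ _ _ (Subgroup.mem_zpowers x))
  have h2 := le_mul_centIn h T (extend_le _ _ hs _ _ _) (le_extend _ _ hs _ _ _ (Subgroup.mem_zpowers x))
  rw [hT, hset, ← Nat.card_coe_set_eq] at h1 h2
  show 2 * Nat.card ↥((X ⊓ Subgroup.centralizer ({y} : Set G) : Subgroup G) : Set G) = _
  omega

theorem card_crossStab : Nat.card crossStab = 4096 * 244823040 := by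
  have h := permPart.ker.card_mul_index
  rw [Subgroup.index_ker, MonoidHom.range_eq_top.2 permPart_surjective, Subgroup.card_top,
    Golay.card_M24] at h
  rw [← h, ← card_signs, signs, Subgroup.card_map_of_injective crossStab.subtype_injective]

/-- The stabiliser of `4 e∞ + 4 e₀`, in `Co1`. -/
noncomputable def stabU : MulAction.stabilizer Co0 Spor.leechU →* Spor.Co1 :=
  (QuotientGroup.mk' (Subgroup.center Co0)).comp (MulAction.stabilizer Co0 Spor.leechU).subtype

theorem leechU_ne_zero : Spor.leechU ≠ 0 := fun e => by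
  have := spor_vectors.1
  rw [show Spor.vecU = ((Spor.leechU : leechLattice) : GolayPt → ℤ) from rfl, e] at this
  simp [sqNorm] at this

theorem neg_leechU_ne : -Spor.leechU ≠ Spor.leechU := fun e => by
  have := congrArg (fun u : leechLattice => (u : GolayPt → ℤ) none) e
  simp [Spor.leechU, Spor.vecU] at this

theorem stabU_injective : Function.Injective stabU := by
  refine (injective_iff_map_eq_one _).2 fun k hk => Subtype.ext ?_
  rcases center_cases ((QuotientGroup.eq_one_iff (k : Co0)).1 hk) with r | r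
  · exact r
  · exfalso
    have h : (k : Co0) • Spor.leechU = Spor.leechU := k.2
    rw [r, negCo_smul] at h
    exact neg_leechU_ne h

section

variable {G : Type*} [Group G] [Finite G] {z t : G} {R : Subgroup G} (D : MData z R)
  (ht : D.lift Spor.leechU t)

/-- The joint centraliser. -/
abbrev cz (z t : G) : Subgroup G :=
  Subgroup.centralizer ({z} : Set G) ⊓ Subgroup.centralizer ({t} : Set G)

include D ht

omit [Finite G] in
theorem tz : t * z = z * t := D.good.le_cent t (D.lift_mem ht)

theorem t_facts : t * t = 1 ∧ t ≠ 1 ∧ t ≠ z := by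
  have h32 : t ∈ D.typeSet 32 := ⟨_, spor_vectors.1, ht⟩
  obtain ⟨h1, hz⟩ := D.type_ne (n := 32) (by norm_num) (by norm_num) h32
  exact ⟨(D.sq_eq_one_iff ht).2 (by
    rw [show ((Spor.leechU : leechLattice) : GolayPt → ℤ) = Spor.vecU from rfl, spor_vectors.1]), h1, hz⟩

theorem pi_mem_range (c : cz z t) :
    D.π (Subgroup.inclusion inf_le_left c) ∈ stabU.range := by
  obtain ⟨k, hk⟩ := QuotientGroup.mk_surjective (D.π (Subgroup.inclusion inf_le_left c))
  have h := D.lift_conj _ k hk.symm ht
  have hct : (c : G) * t * (c : G)⁻¹ = t :=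
    conj_eq_iff_comm.2 (Subgroup.mem_centralizer_singleton_iff.1 c.2.2)
  rw [Subgroup.coe_inclusion, hct] at h
  have hU : sqNorm ((Spor.leechU : leechLattice) : GolayPt → ℤ) = 32 := spor_vectors.1
  have hs := (D.cong_norm ((D.lift_cong ht _).1 h) (by rw [sqNorm_smul, hU]; norm_num)
    (by rw [hU]; norm_num) leechU_ne_zero).2 (by rw [sqNorm_smul, hU]; norm_num)
  rcases hs with e | e
  · exact ⟨⟨k, e.symm⟩, hk⟩
  · refine ⟨⟨negCo * k, show (negCo * k) • Spor.leechU = _ by rw [mul_smul, negCo_smul, ← e]⟩, ?_⟩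
    show (QuotientGroup.mk (negCo * k) : Spor.Co1) = _
    rw [QuotientGroup.mk_mul, (QuotientGroup.eq_one_iff negCo).2 negCo_mem_center, one_mul, hk]

/-- The action of the joint centraliser, in `Co2`. -/
noncomputable def actU : cz z t →* Spor.Co2 :=
  co2Equiv.symm.toMonoidHom.comp ((MonoidHom.ofInjective stabU_injective).symm.toMonoidHom.comp
    ((D.π.comp (Subgroup.inclusion inf_le_left)).codRestrict stabU.range (pi_mem_range D ht)))

theorem actU_spec (c : cz z t) :
    D.π (Subgroup.inclusion inf_le_left c) = stabU (co2Equiv (actU D ht c)) := by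
  rw [actU, MonoidHom.comp_apply, MonoidHom.comp_apply, MulEquiv.coe_toMonoidHom,
    MulEquiv.coe_toMonoidHom, MulEquiv.apply_symm_apply]
  exact (congrArg Subtype.val
    ((MonoidHom.ofInjective stabU_injective).apply_symm_apply ⟨_, pi_mem_range D ht c⟩)).symm

theorem actU_surjective : Function.Surjective (actU D ht) := by
  intro g
  obtain ⟨c, hc, hct⟩ := D.exists_conj (n := 32) (by norm_num) (by norm_num) spor_vectors.1 ht ht
    (show ((co2Equiv g : MulAction.stabilizer Co0 Spor.leechU) : Co0) • Spor.leechU = _ from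
      (co2Equiv g).2)
  refine ⟨⟨c, c.2, Subgroup.mem_centralizer_singleton_iff.2 (conj_eq_iff_comm.1 hct)⟩, ?_⟩
  refine co2Equiv.injective (stabU_injective ?_)
  rw [← actU_spec]
  exact hc

theorem actU_eq_one (c : cz z t) : actU D ht c = 1 ↔ (c : G) ∈ R := by
  rw [← Subgroup.coe_inclusion (h := (inf_le_left : cz z t ≤ _)) c, ← D.π_eq_one, actU_spec D ht]
  exact ⟨fun e => by rw [e, map_one, map_one],
    fun e => co2Equiv.injective (stabU_injective (by rw [e, map_one, map_one]))⟩

/-- `z`, as an element of the centraliser of `t`. -/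
def zH : Subgroup.centralizer ({t} : Set G) :=
  ⟨z, Subgroup.mem_centralizer_singleton_iff.2 (tz D ht).symm⟩

variable [hn : ((Subgroup.zpowers t).subgroupOf (Subgroup.centralizer ({t} : Set G))).Normal]

theorem mk_eq_iff (a b : Subgroup.centralizer ({t} : Set G)) :
    (QuotientGroup.mk a : Subgroup.centralizer ({t} : Set G) ⧸
      (Subgroup.zpowers t).subgroupOf (Subgroup.centralizer ({t} : Set G))) = QuotientGroup.mk b ↔
      (b : G) = a ∨ (b : G) = a * t := by
  rw [QuotientGroup.eq, Subgroup.mem_subgroupOf, Subgroup.coe_mul, Subgroup.coe_inv]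
  constructor
  · intro h
    rcases eq_or_of_mem_zpowers (t_facts D ht).1 h with r | r
    · exact Or.inl (inv_mul_eq_one.1 r).symm
    · exact Or.inr (inv_mul_eq_iff_eq_mul.1 r)
  · rintro (r | r) <;> rw [r]
    · simp
    · simp

/-- The involution of the quotient. -/
def zbar : Subgroup.centralizer ({t} : Set G) ⧸
    (Subgroup.zpowers t).subgroupOf (Subgroup.centralizer ({t} : Set G)) :=
  QuotientGroup.mk (zH D ht)

/-- The map onto the centraliser in the quotient. -/
def phi : cz z t →* Subgroup.centralizer ({zbar D ht} : Set _) :=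
  ((QuotientGroup.mk' ((Subgroup.zpowers t).subgroupOf (Subgroup.centralizer ({t} : Set G)))).comp
    (Subgroup.inclusion inf_le_right)).codRestrict _ fun c =>
      Subgroup.mem_centralizer_singleton_iff.2 (congrArg
        (QuotientGroup.mk (s := (Subgroup.zpowers t).subgroupOf (Subgroup.centralizer ({t} : Set G))))
        (Subtype.ext (Subgroup.mem_centralizer_singleton_iff.1 c.2.1) :
          Subgroup.inclusion inf_le_right c * zH D ht = zH D ht * Subgroup.inclusion inf_le_right c))

theorem phi_eq_iff (a b : cz z t) :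
    phi D ht a = phi D ht b ↔ (b : G) = a ∨ (b : G) = a * t :=
  Subtype.ext_iff.trans (mk_eq_iff D ht _ _)

theorem phi_surjective (hnc : ¬ IsConj z (z * t)) : Function.Surjective (phi D ht) := by
  rintro ⟨p, hp⟩
  obtain ⟨h, rfl⟩ := QuotientGroup.mk_surjective p
  have h' := (mk_eq_iff D ht (zH D ht * h) (h * zH D ht)).1
    (Subgroup.mem_centralizer_singleton_iff.1 hp).symm
  simp only [Subgroup.coe_mul, zH] at h'
  rcases h' with r | r
  · exact ⟨⟨h, Subgroup.mem_centralizer_singleton_iff.2 r, h.2⟩, Subtype.ext rfl⟩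
  · refine absurd (_root_.isConj_iff.2 ⟨(h : G), ?_⟩) hnc
    rw [r, mul_assoc z (h : G) t, Subgroup.mem_centralizer_singleton_iff.1 h.2]
    group

/-- The extraspecial subgroup of the quotient. -/
def rbar : Subgroup (Subgroup.centralizer ({zbar D ht} : Set _)) :=
  (R.subgroupOf (cz z t)).map (phi D ht)

theorem z_mem_cz : z ∈ cz z t :=
  ⟨Subgroup.mem_centralizer_singleton_iff.2 rfl, (zH D ht).2⟩

theorem t_mem_cz : t ∈ cz z t :=
  ⟨Subgroup.mem_centralizer_singleton_iff.2 (tz D ht), Subgroup.mem_centralizer_singleton_iff.2 rfl⟩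

omit hn in
theorem mem_cz {q : G} (hq : q ∈ R) (hqt : q * t = t * q) : q ∈ cz z t :=
  ⟨Subgroup.mem_centralizer_singleton_iff.2 (D.good.le_cent q hq),
    Subgroup.mem_centralizer_singleton_iff.2 hqt⟩

theorem phi_one_iff (a : cz z t) : phi D ht a = 1 ↔ (a : G) = 1 ∨ (a : G) = t := by
  rw [eq_comm, ← map_one (phi D ht), phi_eq_iff]
  simp

theorem card_rbar : Nat.card (rbar D ht) = 2 ^ 23 := by
  obtain ⟨ht2, ht1, htz⟩ := t_facts D ht
  have htR := D.lift_mem ht
  have hnt : t ∉ Subgroup.zpowers z := fun h =>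
    (eq_or_of_mem_zpowers D.good.x_sq h).elim ht1 htz
  have hR0 : Nat.card (R.subgroupOf (cz z t)) = 2 ^ 24 := by
    have h := card_inf_centralizer D.good htR hnt
    rw [D.card] at h
    have e : Nat.card (R.subgroupOf (cz z t)) = Nat.card ↥(R ⊓ Subgroup.centralizer ({t} : Set G)) :=
      Nat.card_congr
        { toFun := fun q => ⟨q.1.1, q.2, q.1.2.2⟩
          invFun := fun q => ⟨⟨q.1, mem_cz D ht q.2.1 (Subgroup.mem_centralizer_singleton_iff.1 q.2.2)⟩, q.2.1⟩
          left_inv := fun q => rfl
          right_inv := fun q => rfl }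
    rw [e]
    omega
  let f : R.subgroupOf (cz z t) →* Subgroup.centralizer ({zbar D ht} : Set _) :=
    (phi D ht).comp (R.subgroupOf (cz z t)).subtype
  have hr : f.range = rbar D ht := by rw [MonoidHom.range_comp, Subgroup.range_subtype]; rfl
  have hk : Nat.card f.ker = 2 := by
    rw [Nat.card_eq_two_iff]
    refine ⟨1, ⟨⟨⟨t, t_mem_cz D ht⟩, htR⟩, (phi_one_iff D ht ⟨t, t_mem_cz D ht⟩).2 (Or.inr rfl)⟩,
      fun e => ht1 (congrArg (fun q : f.ker => ((q.1.1 : cz z t) : G)) e).symm, Set.eq_univ_of_forall ?_⟩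
    rintro ⟨q, hq⟩
    rcases (phi_one_iff D ht q.1).1 hq with r | r
    · exact Or.inl (Subtype.ext (Subtype.ext (Subtype.ext r)))
    · exact Or.inr (Subtype.ext (Subtype.ext (Subtype.ext r)))
  have h := f.ker.card_mul_index
  rw [Subgroup.index_ker, hr, hk, hR0] at h
  omega

theorem sq_or {a : G} (ha : a ∈ R) : a * a = 1 ∨ a * a = z := D.good.sq_cases ha

theorem center_rbar (a : rbar D ht) :
    a ∈ Subgroup.center (rbar D ht) ↔
      (a : Subgroup.centralizer ({zbar D ht} : Set _)) = 1 ∨
        (a : Subgroup.centralizer ({zbar D ht} : Set _)) = phi D ht ⟨z, z_mem_cz D ht⟩ := by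
  obtain ⟨ht2, ht1, htz⟩ := t_facts D ht
  constructor
  · intro ha
    obtain ⟨q, hq, hqa⟩ := a.2
    have htS : Subgroup.zpowers z ≤ R := Subgroup.zpowers_le.2 D.good.x_mem
    let T : Subgroup G :=
      extend D.good (Subgroup.zpowers z) htS (Subgroup.mem_zpowers z) t (D.lift_mem ht)
    by_cases hqT : (q : G) ∈ T
    · rcases hqT with r | r
      · rcases eq_or_of_mem_zpowers D.good.x_sq r with r | r
        · left; rw [← hqa, phi_one_iff]; exact Or.inl r
        · right; rw [← hqa, phi_eq_iff]; exact Or.inl r.symm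
      · rcases eq_or_of_mem_zpowers D.good.x_sq r with r | r
        · left; rw [← hqa, phi_one_iff]; exact Or.inr (inv_mul_eq_one.1 r).symm
        · right
          rw [← hqa, phi_eq_iff]
          right
          rw [inv_mul_eq_iff_eq_mul.1 r, tz D ht, mul_assoc, ht2, mul_one]
    · exfalso
      obtain ⟨p, hp, hpS, hpq⟩ := exists_separating D.good T (extend_le _ _ htS _ _ _)
        (le_extend _ _ htS _ _ _ (Subgroup.mem_zpowers z)) hq hqT
      have hpm := mem_cz D ht hp (hpS t (self_mem_extend _ _ htS _ _ _))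
      have hb : phi D ht ⟨p, hpm⟩ ∈ rbar D ht := Subgroup.mem_map_of_mem _ hp
      have h := congrArg Subtype.val (Subgroup.mem_center_iff.1 ha ⟨_, hb⟩)
      simp only [Subgroup.coe_mul] at h
      rw [← hqa, ← map_mul, ← map_mul, phi_eq_iff] at h
      simp only [Subgroup.coe_mul] at h
      have e : p * (q : G) = (q : G) * z * p := by
        calc p * (q : G) = p * q * p⁻¹ * p := by group
          _ = _ := congrArg (· * p) hpq
      have hpz : z * p = p * z := (D.good.le_cent p hp).symm
      rw [e, mul_assoc (q : G) z p, hpz, ← mul_assoc] at h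
      rcases h with r | r
      · have hz' : z = 1 := by
          have := mul_left_cancel (a := (q : G) * p) (b := z) (c := 1) (by rw [mul_one, ← r])
          exact this
        exact D.good.x_ne hz'
      · have hz' : z * t = 1 := by
          refine mul_left_cancel (a := (q : G) * p) ?_
          rw [mul_one, ← mul_assoc, ← r]
        exact htz (by rw [eq_inv_of_mul_eq_one_right hz']; exact inv_eq_of_mul_eq_one_right D.good.x_sq)
  · intro h
    rcases h with r | r
    · rw [show a = 1 from Subtype.ext r]; exact one_mem _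
    · refine Subgroup.mem_center_iff.2 fun b => Subtype.ext ?_
      obtain ⟨p, hp, hpb⟩ := b.2
      simp only [Subgroup.coe_mul]
      rw [r, ← hpb, ← map_mul, ← map_mul]
      congr 1
      exact Subtype.ext (D.good.le_cent p hp)

theorem rbar_extraspecial : IsExtraspecial 2 (rbar D ht) := by
  have hzc : (⟨phi D ht ⟨z, z_mem_cz D ht⟩, Subgroup.mem_map_of_mem _ D.good.x_mem⟩ : rbar D ht) ∈
      Subgroup.center (rbar D ht) := (center_rbar D ht _).2 (Or.inr rfl)
  obtain ⟨-, -, htz⟩ := t_facts D ht
  have hz1 : (⟨phi D ht ⟨z, z_mem_cz D ht⟩, Subgroup.mem_map_of_mem _ D.good.x_mem⟩ : rbar D ht) ≠ 1 := by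
    intro e
    rcases (phi_one_iff D ht _).1 (congrArg Subtype.val e) with r | r
    · exact D.good.x_ne r
    · exact htz r.symm
  have hall : ∀ x ∈ Subgroup.center (rbar D ht),
      x = 1 ∨ x = ⟨phi D ht ⟨z, z_mem_cz D ht⟩, Subgroup.mem_map_of_mem _ D.good.x_mem⟩ :=
    fun x hx => ((center_rbar D ht x).1 hx).imp (fun e => Subtype.ext e) (fun e => Subtype.ext e)
  have hp : IsPGroup 2 (rbar D ht) := IsPGroup.of_card (card_rbar D ht)
  have hne : ∃ x y : rbar D ht, x * y ≠ y * x := by
    by_contra hno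
    push Not at hno
    have : Subgroup.center (rbar D ht) = ⊤ :=
      eq_top_iff.2 fun x _ => Subgroup.mem_center_iff.2 fun y => hno y x
    have h2 : Nat.card (rbar D ht) ≤ 2 := by
      rw [← Subgroup.card_top, ← this]
      refine (Nat.card_mono (Set.toFinite _) (s := (Subgroup.center (rbar D ht) : Set (rbar D ht)))
        (t := {1, ⟨phi D ht ⟨z, z_mem_cz D ht⟩, Subgroup.mem_map_of_mem _ D.good.x_mem⟩})
        fun x hx => hall x hx).trans ?_
      rw [Nat.card_coe_set_eq]
      exact (Set.ncard_insert_le _ _).trans (by rw [Set.ncard_singleton])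
    rw [card_rbar] at h2
    norm_num at h2
  obtain ⟨x, y, hxy⟩ := hne
  refine LargeES.Heisenberg.isExtraspecial_of_props hp hz1 hzc hall (fun a => ?_) (fun a b => ?_) hxy
  · obtain ⟨q, hq, hqa⟩ := a.2
    rw [center_rbar, SubgroupClass.coe_pow, ← hqa, ← map_pow, pow_two, phi_one_iff, phi_eq_iff]
    rcases sq_or D ht hq with r | r
    · exact Or.inl (Or.inl r)
    · exact Or.inr (Or.inl r.symm)
  · obtain ⟨p, hp', hpa⟩ := a.2
    obtain ⟨q, hq, hqb⟩ := b.2
    rw [center_rbar]
    simp only [Subgroup.coe_mul, Subgroup.coe_inv]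
    rw [← hpa, ← hqb, ← map_inv, ← map_inv, ← map_mul, ← map_mul, ← map_mul, phi_one_iff, phi_eq_iff]
    rcases D.comm_cases hp' hq with r | r
    · exact Or.inl (Or.inl r)
    · exact Or.inr (Or.inl r.symm)

theorem exists_perp_lift (x : leechPerpU) :
    ∃ q : cz z t, (q : G) ∈ R ∧ D.lift (x : leechLattice) q := by
  obtain ⟨q, hq⟩ := D.lift_left (x : leechLattice)
  exact ⟨⟨q, mem_cz D ht (D.lift_mem hq) ((D.comm_iff hq ht).2 x.2).symm⟩, D.lift_mem hq, hq⟩

/-- The identification with the orthogonal section of the lattice. -/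
noncomputable def psi (x : leechPerpU) : rbar D ht ⧸ Subgroup.center (rbar D ht) :=
  QuotientGroup.mk ⟨phi D ht (exists_perp_lift D ht x).choose,
    Subgroup.mem_map_of_mem _ (exists_perp_lift D ht x).choose_spec.1⟩

theorem psi_eq {x : leechPerpU} {q : cz z t} (hq : D.lift (x : leechLattice) q) :
    psi D ht x = QuotientGroup.mk ⟨phi D ht q, Subgroup.mem_map_of_mem _ (D.lift_mem hq)⟩ := by
  rw [psi, QuotientGroup.eq, center_rbar]
  simp only [Subgroup.coe_mul, Subgroup.coe_inv]
  rw [← map_inv, ← map_mul, phi_one_iff, phi_eq_iff]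
  simp only [Subgroup.coe_mul, Subgroup.coe_inv]
  rcases (D.lift_pair (exists_perp_lift D ht x).choose_spec.2 _).1 hq with r | r <;> rw [r]
  · exact Or.inl (Or.inl (inv_mul_cancel _))
  · exact Or.inr (Or.inl (inv_mul_cancel_left _ _).symm)

theorem psi_kernel (x : leechPerpU) :
    psi D ht x = 1 ↔ (∃ w : leechLattice, (x : leechLattice) = w + w) ∨
      ∃ w : leechLattice, (x : leechLattice) = Spor.leechU + (w + w) := by
  obtain ⟨q, hqR, hq⟩ := exists_perp_lift D ht x
  rw [psi_eq D ht hq, QuotientGroup.eq_one_iff, center_rbar, phi_one_iff, phi_eq_iff]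
  have h0 : Cong (x : leechLattice) 0 ↔ ∃ w : leechLattice, (x : leechLattice) = w + w :=
    exists_congr fun w => by rw [zero_add]
  rw [← h0, show (∃ w : leechLattice, (x : leechLattice) = Spor.leechU + (w + w)) ↔
    Cong (x : leechLattice) Spor.leechU from Iff.rfl, ← D.lift_cong D.lift_zero, ← D.lift_cong ht]
  obtain ⟨ht2, -, -⟩ := t_facts D ht
  constructor
  · rintro ((r | r) | (r | r))
    · exact Or.inl (r ▸ hq)
    · exact Or.inr (r ▸ hq)
    · refine Or.inl ((D.lift_pair hq _).2 (Or.inr ?_))
      rw [← r, D.good.x_sq]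
    · refine Or.inr ((D.lift_pair hq _).2 (Or.inr ?_))
      have e : (q : G) = t * z := by
        calc (q : G) = (q : G) * t * t := by rw [mul_assoc, ht2, mul_one]
          _ = z * t := by rw [← r]
          _ = t * z := (tz D ht).symm
      rw [e, mul_assoc, D.good.x_sq, mul_one]
  · rintro (r | r)
    · rcases (D.lift_pair r (q : G)).1 hq with e | e
      · exact Or.inl (Or.inl e)
      · exact Or.inr (Or.inl (by rw [e, one_mul]))
    · rcases (D.lift_pair r (q : G)).1 hq with e | e
      · exact Or.inl (Or.inr e)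
      · refine Or.inr (Or.inr ?_)
        show z = (q : G) * t
        rw [e, tz D ht, mul_assoc, ht2, mul_one]

/-- An element acting trivially on the orthogonal section stabilises the class of `8 e∞`. -/
theorem mem_crossStab_of_fix {k : Co0} (hk : k • Spor.leechU = Spor.leechU)
    (h : Cong (k • pt8 none) (pt8 none) ∨ Cong (k • pt8 none) (pt8 none + Spor.leechU)) :
    k ∈ crossStab := by
  rcases h with h | h
  · exact h
  · exfalso
    have e : Cong (pt8 none + Spor.leechU) (-pt8 none + Spor.leechU) :=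
      ⟨pt8 none, by abel⟩
    have h' := h.trans e
    have hn : sqNorm ((-pt8 none + Spor.leechU : leechLattice) : GolayPt → ℤ) = 32 := by
      show sqNorm (-vec8 none + Spor.vecU) = 32
      decide +kernel
    have := (D.cong_norm h' (by rw [sqNorm_smul]; exact le_of_eq (sqNorm_vec8 none))
      (by rw [hn]; norm_num) (fun e => by rw [e] at hn; simp [sqNorm] at hn)).1
    rw [hn, sqNorm_smul, show ((pt8 none : leechLattice) : GolayPt → ℤ) = vec8 none from rfl,
      sqNorm_vec8] at this
    norm_num at this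

theorem isBaby (hnc : ¬ IsConj z (z * t))
    (hmove : ∃ h : G, h * t * h⁻¹ = t ∧ h * z * h⁻¹ ∈ R ∧ h * z * h⁻¹ ≠ z) :
    IsOfBabyMonsterType (Subgroup.centralizer ({t} : Set G) ⧸
      (Subgroup.zpowers t).subgroupOf (Subgroup.centralizer ({t} : Set G))) := by
  haveI : Fact (Nat.Prime 2) := ⟨Nat.prime_two⟩
  haveI := finite_co0
  haveI := isSimpleGroup_Co2
  haveI : Finite Spor.Co2 := Finite.of_equiv _ co2Equiv.symm.toEquiv
  obtain ⟨ht2, ht1, htz⟩ := t_facts D ht
  have hφ := phi_surjective D ht hnc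
  have hker : (phi D ht).ker ≤ (actU D ht).ker := by
    intro c hc
    rw [MonoidHom.mem_ker, actU_eq_one]
    rcases (phi_one_iff D ht c).1 hc with r | r <;> rw [r]
    · exact one_mem _
    · exact D.lift_mem ht
  let θ' := (phi D ht).liftOfSurjective hφ ⟨actU D ht, hker⟩
  have hθ : ∀ c, θ' (phi D ht c) = actU D ht c :=
    fun c => MonoidHom.liftOfRightInverse_comp_apply _ _ _ _ c
  have hθs : Function.Surjective θ' := fun g => by
    obtain ⟨c, rfl⟩ := actU_surjective D ht g
    exact ⟨_, hθ c⟩
  have hkθ : θ'.ker = rbar D ht := by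
    ext p
    obtain ⟨c, rfl⟩ := hφ p
    rw [MonoidHom.mem_ker, hθ, actU_eq_one]
    constructor
    · exact fun h => Subgroup.mem_map_of_mem _ h
    · rintro ⟨d, hd, hdc⟩
      rcases (phi_eq_iff D ht d c).1 hdc with r | r <;> rw [r]
      · exact hd
      · exact mul_mem hd (D.lift_mem ht)
  have hN : (rbar D ht).Normal := hkθ ▸ MonoidHom.normal_ker θ'
  have hpg : IsPGroup 2 (rbar D ht) := IsPGroup.of_card (card_rbar D ht)
  have hcore : pCore 2 (Subgroup.centralizer ({zbar D ht} : Set _)) = rbar D ht := by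
    refine le_antisymm ?_ (PSolvable.le_pCore hpg)
    haveI := PSolvable.pCore_characteristic (p := 2) (G := Subgroup.centralizer ({zbar D ht} : Set _))
    rw [← hkθ, ← Subgroup.map_eq_bot_iff]
    rcases ((inferInstance : (pCore 2 (Subgroup.centralizer ({zbar D ht} : Set _))).Normal).map θ'
      hθs).eq_bot_or_eq_top with h | h
    · exact h
    · exfalso
      obtain ⟨k, hk⟩ := IsPGroup.iff_card.1
        ((PSolvable.pCore_isPGroup (p := 2) (G := Subgroup.centralizer ({zbar D ht} : Set _))).map θ')
      rw [h, Subgroup.card_top, card_Co2] at hk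
      have h3 : 3 ∣ 2 ^ k := hk ▸ by norm_num
      exact absurd ((Nat.prime_dvd_prime_iff_eq Nat.prime_three Nat.prime_two).1
        (Nat.prime_three.dvd_of_dvd_pow h3)) (by norm_num)
  have hchar : IsOfCharacteristicTwo (Subgroup.centralizer ({zbar D ht} : Set _)) := by
    show Subgroup.centralizer (pCore 2 (Subgroup.centralizer ({zbar D ht} : Set _)) : Set (Subgroup.centralizer ({zbar D ht} : Set _))) ≤
      pCore 2 (Subgroup.centralizer ({zbar D ht} : Set _))
    rw [hcore, ← hkθ, ← Subgroup.map_eq_bot_iff]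
    rw [hkθ]
    rcases ((inferInstance : (Subgroup.centralizer
      (rbar D ht : Set (Subgroup.centralizer ({zbar D ht} : Set _)))).Normal).map θ' hθs).eq_bot_or_eq_top
      with h | h
    · exact h
    · exfalso
      have hle : MulAction.stabilizer Co0 Spor.leechU ≤ crossStab := by
        intro k hk
        obtain ⟨p, hp, hpk⟩ : co2Equiv.symm ⟨k, hk⟩ ∈ (Subgroup.centralizer
            (rbar D ht : Set (Subgroup.centralizer ({zbar D ht} : Set _)))).map θ' := h ▸ Subgroup.mem_top _
        obtain ⟨c, rfl⟩ := hφ p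
        rw [hθ] at hpk
        obtain ⟨q, hq⟩ := D.lift_left (pt8 none)
        have hd : (16 : ℤ) ∣ dotInt (vec8 none) Spor.vecU := by decide +kernel
        have hqm := mem_cz D ht (D.lift_mem hq) ((D.comm_iff hq ht).2 hd).symm
        have e := (Subgroup.mem_centralizer_iff.1 hp) _
          (Subgroup.mem_map_of_mem (phi D ht) (show (⟨q, hqm⟩ : cz z t) ∈ R.subgroupOf _ from D.lift_mem hq))
        rw [← map_mul, ← map_mul, phi_eq_iff] at e
        simp only [Subgroup.coe_mul] at e
        have hc : D.π (Subgroup.inclusion inf_le_left c) = QuotientGroup.mk k := by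
          rw [actU_spec D ht, hpk, MulEquiv.apply_symm_apply]; rfl
        have hl := D.lift_conj _ k hc hq
        rw [Subgroup.coe_inclusion] at hl
        refine mem_crossStab_of_fix D ht hk ?_
        rcases e with r | r <;> rw [r] at hl
        · left
          rw [mul_inv_cancel_right] at hl
          exact (D.lift_cong hq _).1 hl
        · right
          have hct : t * (c : G)⁻¹ = (c : G)⁻¹ * t :=
            (Commute.inv_right (Subgroup.mem_centralizer_singleton_iff.1 c.2.2 :
              Commute (c : G) t).symm).eq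
          rw [mul_assoc _ t, hct, ← mul_assoc, mul_inv_cancel_right] at hl
          exact (D.lift_cong (D.lift_add hq ht) _).1 hl
      have := Subgroup.card_le_of_le hle
      rw [card_crossStab, ← Nat.card_congr co2Equiv.toEquiv, card_Co2] at this
      norm_num at this
  have hF : generalizedFittingSubgroup (Subgroup.centralizer ({zbar D ht} : Set _)) = rbar D ht :=
    (CharTwo.generalizedFitting_eq_of_charTwo hchar).trans hcore
  let e := (QuotientGroup.quotientMulEquivOfEq hkθ.symm).trans
    (QuotientGroup.quotientKerEquivOfSurjective θ' hθs)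
  have he : ∀ c, e (QuotientGroup.mk (phi D ht c)) = actU D ht c := fun c => hθ c
  refine ⟨zbar D ht, rbar D ht, hN, ⟨?_, hF, rbar_extraspecial D ht, card_rbar D ht, ?_⟩, e,
    psi D ht, fun x y => ?_, ?_, psi_kernel D ht, ?_⟩
  · refine orderOf_eq_prime ?_ ?_
    · rw [pow_two]
      exact congrArg QuotientGroup.mk (Subtype.ext D.good.x_sq : zH D ht * zH D ht = 1)
    · intro e
      rcases (mk_eq_iff D ht 1 (zH D ht)).1 e.symm with r | r
      · exact D.good.x_ne r
      · exact htz (by simpa [zH] using r.symm)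
  · obtain ⟨h, hht, hhR, hhz⟩ := hmove
    have hh : h ∈ Subgroup.centralizer ({t} : Set G) :=
      Subgroup.mem_centralizer_singleton_iff.2 (conj_eq_iff_comm.1 hht)
    have hst : h * z * h⁻¹ * t = t * (h * z * h⁻¹) := by
      calc h * z * h⁻¹ * t = h * z * h⁻¹ * (h * t * h⁻¹) := by rw [hht]
        _ = h * (z * t) * h⁻¹ := by group
        _ = h * (t * z) * h⁻¹ := by rw [tz D ht]
        _ = (h * t * h⁻¹) * (h * z * h⁻¹) := by group
        _ = _ := by rw [hht]
    let s : cz z t := ⟨h * z * h⁻¹, mem_cz D ht hhR hst⟩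
    let hq' : Subgroup.centralizer ({t} : Set G) ⧸
        (Subgroup.zpowers t).subgroupOf (Subgroup.centralizer ({t} : Set G)) :=
      QuotientGroup.mk' _ (⟨h, hh⟩ : Subgroup.centralizer ({t} : Set G))
    have hs : hq' * zbar D ht * hq'⁻¹ =
        (phi D ht s : Subgroup.centralizer ({t} : Set G) ⧸
          (Subgroup.zpowers t).subgroupOf (Subgroup.centralizer ({t} : Set G))) := by
      show QuotientGroup.mk' _ (⟨h, hh⟩ : Subgroup.centralizer ({t} : Set G)) *
        QuotientGroup.mk' _ (zH D ht) * (QuotientGroup.mk' _ (⟨h, hh⟩ : Subgroup.centralizer ({t} : Set G)))⁻¹ = _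
      rw [← map_inv, ← map_mul, ← map_mul]
      rfl
    refine ⟨hq', ⟨by rw [hs]; exact (phi D ht s).2, ?_⟩, ?_⟩
    · simp only [hs]
      exact Subgroup.mem_map_of_mem _ hhR
    · rw [hs]
      intro e
      rcases (mk_eq_iff D ht _ (zH D ht)).1 e with r | r
      · exact hhz r.symm
      · refine hnc (_root_.isConj_iff.2 ⟨h, ?_⟩)
        calc h * z * h⁻¹ = h * z * h⁻¹ * (t * t) := by rw [ht2, mul_one]
          _ = (h * z * h⁻¹ * t) * t := by group
          _ = z * t := by rw [show (h * z * h⁻¹ * t : G) = z from r.symm]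
  · obtain ⟨p, -, hp⟩ := exists_perp_lift D ht x
    obtain ⟨q, -, hq⟩ := exists_perp_lift D ht y
    rw [psi_eq D ht (q := p * q) (D.lift_add hp hq), psi_eq D ht hp, psi_eq D ht hq,
      ← QuotientGroup.mk_mul]
    exact congrArg QuotientGroup.mk (Subtype.ext (map_mul _ _ _))
  · intro p
    obtain ⟨⟨a, q, hq, rfl⟩, rfl⟩ := QuotientGroup.mk_surjective p
    obtain ⟨v, hv⟩ := D.lift_right hq
    refine ⟨⟨v, (D.comm_iff hv ht).1 (Subgroup.mem_centralizer_singleton_iff.1 q.2.2).symm⟩, ?_⟩
    exact psi_eq D ht hv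
  · intro h g hg x y hxy q hq
    obtain ⟨c, rfl⟩ := hφ h
    rw [he] at hg
    obtain ⟨p, hpR, hp⟩ := exists_perp_lift D ht x
    have hc : D.π (Subgroup.inclusion inf_le_left c) =
        QuotientGroup.mk ((co2Equiv g : MulAction.stabilizer Co0 Spor.leechU) : Co0) := by
      rw [actU_spec D ht, hg]; rfl
    have hl : D.lift (y : leechLattice) ((c * p * c⁻¹ : cz z t) : G) := by
      rw [← hxy]
      exact D.lift_conj _ _ hc hp
    rw [psi_eq D ht hp] at hq
    rw [psi_eq D ht hl, QuotientGroup.eq, center_rbar]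
    have hq' := QuotientGroup.eq.1 hq
    rw [center_rbar] at hq'
    simp only [Subgroup.coe_mul, Subgroup.coe_inv] at hq' ⊢
    rw [map_mul, map_mul, map_inv]
    rcases hq' with r | r
    · left
      rw [inv_mul_eq_one.1 r]
      group
    · right
      rw [inv_mul_eq_iff_eq_mul.1 r]
      have hzc : phi D ht c * phi D ht ⟨z, z_mem_cz D ht⟩ = phi D ht ⟨z, z_mem_cz D ht⟩ * phi D ht c := by
        rw [← map_mul, ← map_mul]
        exact congrArg _ (Subtype.ext (Subgroup.mem_centralizer_singleton_iff.1 c.2.1))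
      calc _ = phi D ht c * phi D ht ⟨z, z_mem_cz D ht⟩ * (phi D ht c)⁻¹ := by group
        _ = _ := by rw [hzc, mul_inv_cancel_right]

end

end Cfsg.Agent.Lib.MonsterType
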