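import Cfsg.Agent.Lib.MonsterType.Pair

/-!
The image in `Co1` of the stabiliser of the class of `8 e∞`: a split extension of the sign changes by `M24`.
-/

set_option autoImplicit false

namespace Cfsg.Agent.Lib.MonsterType

open Cfsg
open Cfsg.Agent.Lib
open Cfsg.Agent.Lib.Leech
open Cfsg.Agent.Lib.LargeExtra

local notation "mk₁" => QuotientGroup.mk' (Subgroup.center Co0)

/-- The permutations, as automorphisms of the lattice. -/
noncomputable def perms : M24 →* Co0 where
  toFun σ := monoCo σ.1 σ.2 0 (zero_mem _)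
  map_one' := co0_ext fun v => by
    rw [monoCo_smul]; funext k; simp [signedPerm, support₂]; rfl
  map_mul' a b := by
    rw [monoCo_mul]
    refine co0_ext fun v => ?_
    rw [monoCo_smul, monoCo_smul]
    funext k
    simp [signedPerm, support₂]

theorem perms_mem_crossStab (σ : M24) : perms σ ∈ crossStab :=
  monoCo_mem_crossStab σ.1 σ.2 0 (zero_mem _)

theorem center_le_signs : Subgroup.center Co0 ≤ signs := by
  intro x hx
  rcases center_cases hx with r | r <;> rw [r]
  exacts [one_mem _, negCo_mem_signs]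

theorem eq_one_of_perms_mem_signs {σ : M24} (h : perms σ ∈ signs) : σ = 1 := by
  obtain ⟨w, hw, e⟩ := mem_signs_iff.1 h
  exact Subtype.ext (monoCo_injective
    (show monoCo σ.1 σ.2 0 (zero_mem _) = monoCo 1 (one_mem M24) w hw from e)).1

/-- The permutations in `Co1`. -/
noncomputable def perms₁ : M24 →* Spor.Co1 := (mk₁).comp perms

theorem eq_one_of_perms₁_mem {σ : M24} (h : perms₁ σ ∈ signs.map mk₁) : σ = 1 := by
  obtain ⟨s, hs, e⟩ := h
  have hc := QuotientGroup.eq.1 (show (QuotientGroup.mk s : Spor.Co1) = QuotientGroup.mk (perms σ) from e)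
  refine eq_one_of_perms_mem_signs ?_
  simpa using mul_mem hs (center_le_signs hc)

theorem perms₁_injective : Function.Injective perms₁ := by
  refine (injective_iff_map_eq_one _).2 fun σ h => eq_one_of_perms₁_mem ?_
  rw [h]; exact one_mem _

theorem map_crossStab_eq : crossStab.map mk₁ = signs.map mk₁ ⊔ perms₁.range := by
  refine le_antisymm ?_ (sup_le (Subgroup.map_mono signs_le) ?_)
  · rintro _ ⟨g, hg, rfl⟩
    obtain ⟨σ, hσ, s, hs, rfl⟩ := exists_signs_mul_of_mem_crossStab hg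
    rw [map_mul]
    exact Subgroup.mul_mem_sup ⟨s, hs, rfl⟩ ⟨⟨σ, hσ⟩, rfl⟩
  · rintro _ ⟨σ, rfl⟩
    exact ⟨_, perms_mem_crossStab σ, rfl⟩

theorem conj_mem_map_signs {x y : Spor.Co1} (hx : x ∈ crossStab.map mk₁) (hy : y ∈ signs.map mk₁) :
    x * y * x⁻¹ ∈ signs.map mk₁ := by
  obtain ⟨g, hg, rfl⟩ := hx
  obtain ⟨s, hs, rfl⟩ := hy
  exact ⟨_, conj_mem_signs hg hs, by rw [map_mul, map_mul, map_inv]⟩

theorem sq_map_signs {y : Spor.Co1} (hy : y ∈ signs.map mk₁) : y * y = 1 := by
  obtain ⟨s, hs, rfl⟩ := hy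
  rw [← map_mul, signs_sq hs, map_one]

/-- The split extension, pulled back along an isomorphism with `Co1`. -/
theorem pullback_cross {H : Type*} [Group H] (e : H ≃* Spor.Co1) {X E : Subgroup H}
    (hX : X.map e.toMonoidHom = crossStab.map mk₁) (hE : E.map e.toMonoidHom = signs.map mk₁) :
    E ≤ X ∧ (∀ x ∈ X, ∀ y ∈ E, x * y * x⁻¹ ∈ E) ∧ IsElementaryAbelian 2 E ∧ Nat.card E = 2 ^ 11 ∧
      ∃ K : Subgroup H, K ≤ X ∧ E ⊓ K = ⊥ ∧ E ⊔ K = X ∧ Nonempty (K ≃* M24) := by
  have mX : ∀ x, x ∈ X ↔ e x ∈ crossStab.map mk₁ := fun x => by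
    rw [← hX]
    exact (Subgroup.mem_map_iff_mem (f := e.toMonoidHom) e.injective).symm
  have mE : ∀ x, x ∈ E ↔ e x ∈ signs.map mk₁ := fun x => by
    rw [← hE]
    exact (Subgroup.mem_map_iff_mem (f := e.toMonoidHom) e.injective).symm
  have hsq : ∀ x ∈ E, x * x = 1 := fun x hx => e.injective (by
    rw [map_mul, map_one]; exact sq_map_signs ((mE x).1 hx))
  have hcomm : ∀ a ∈ E, ∀ b ∈ E, a * b = b * a := fun a ha b hb => by
    calc a * b = (a * b)⁻¹ := (inv_eq_of_mul_eq_one_right (hsq _ (mul_mem ha hb))).symm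
      _ = b * a := by
        rw [mul_inv_rev, inv_eq_of_mul_eq_one_right (hsq a ha), inv_eq_of_mul_eq_one_right (hsq b hb)]
  refine ⟨fun x hx => (mX x).2 (Subgroup.map_mono signs_le ((mE x).1 hx)), fun x hx y hy => ?_,
    ⟨⟨⟨fun a b => Subtype.ext (hcomm a a.2 b b.2)⟩⟩, fun x hx => ?_⟩, ?_,
    perms₁.range.comap e.toMonoidHom, ?_, ?_, ?_, ⟨?_⟩⟩
  · rw [mE, map_mul, map_mul, map_inv]
    exact conj_mem_map_signs ((mX x).1 hx) ((mE y).1 hy)
  · rw [pow_two]; exact hsq x hx
  · rw [← Subgroup.card_map_of_injective (f := e.toMonoidHom) e.injective, hE, card_map_signs]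
  · intro x hx
    rw [mX, map_crossStab_eq]
    exact Subgroup.mem_sup_right hx
  · rw [eq_bot_iff]
    rintro x ⟨hx, σ, hσ⟩
    obtain rfl : σ = 1 := eq_one_of_perms₁_mem (hσ ▸ (mE x).1 hx)
    rw [map_one] at hσ
    exact Subgroup.mem_bot.2 (e.injective (hσ.symm.trans (map_one e).symm))
  · refine Subgroup.map_injective (f := e.toMonoidHom) e.injective ?_
    rw [Subgroup.map_sup, hE, Subgroup.map_comap_eq_self_of_surjective e.surjective, hX, map_crossStab_eq]
  · exact ((MulEquiv.subgroupMap e _).trans (MulEquiv.subgroupCongr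
      (Subgroup.map_comap_eq_self_of_surjective e.surjective _))).trans
      (MonoidHom.ofInjective perms₁_injective).symm

section

variable {G : Type*} [Group G] [Finite G] {z s : G} {R R' : Subgroup G}

/-- Elements fixing `s` induce exactly the stabiliser of the class. -/
theorem map_fix (D : MData z R) (S : ExtraTwo.Pair.Setting R R' z s) (hv : D.lift (pt8 none) s) :
    ((Subgroup.centralizer ({z} : Set G) ⊓ Subgroup.centralizer ({s} : Set G)).subgroupOf
      (Subgroup.centralizer ({z} : Set G))).map D.π = crossStab.map mk₁ := by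
  ext p
  constructor
  · rintro ⟨c, hc, rfl⟩
    obtain ⟨k, hk⟩ := QuotientGroup.mk_surjective (D.π c)
    exact ⟨k, cong_of_fix D S hv (conj_eq_iff_comm.2 (Subgroup.mem_centralizer_singleton_iff.1 hc.2))
      hk.symm, hk⟩
  · rintro ⟨k, hk, rfl⟩
    obtain ⟨c, hc, hcs⟩ := exists_fix D S hv hk
    exact ⟨c, ⟨c.2, Subgroup.mem_centralizer_singleton_iff.2 (conj_eq_iff_comm.1 hcs)⟩, hc⟩

end

end Cfsg.Agent.Lib.MonsterType
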