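import Cfsg.Agent.Lib.MonsterType.Stab32
import Cfsg.Agent.Lib.LargeExtra.Setting
import Cfsg.Agent.Lib.Lattice.EvenFormCount
import Cfsg.Agent.Lib.PGroup.Extraspecial
import Cfsg.Agent.Lib.Components.GenFitting
import Cfsg.Agent.S5551
import Cfsg.Agent.S5552
import Cfsg.Prelude.Def_MonsterType

/-!
An extraspecial group of order `2^25` in an involution centraliser, identified modulo its centre with
the lattice modulo twice itself: squares, and the three classes of its non-central elements.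
-/

set_option autoImplicit false

namespace Cfsg.Agent.Lib.MonsterType

open Cfsg
open Cfsg.Agent.Lib
open Cfsg.Agent.Lib.Leech
open Cfsg.Agent.Lib.LargeExtra

/-- `Good` is carried along by conjugation. -/
theorem good_map {G : Type*} [Group G] {X : Subgroup G} {x : G} (h : Good X x) (τ : G) :
    Good (X.map (MulAut.conj τ).toMonoidHom) (τ * x * τ⁻¹) := by
  have hmem : ∀ {q : G}, q ∈ X.map (MulAut.conj τ).toMonoidHom → ∃ a ∈ X, τ * a * τ⁻¹ = q := by
    rintro q ⟨a, ha, rfl⟩; exact ⟨a, ha, rfl⟩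
  have mk : ∀ {a : G}, a ∈ X → τ * a * τ⁻¹ ∈ X.map (MulAut.conj τ).toMonoidHom :=
    fun ha => ⟨_, ha, rfl⟩
  refine ⟨mk h.x_mem, ?_, ?_, ?_, ?_, ?_, ?_, ?_, ?_⟩
  · rw [show τ * x * τ⁻¹ * (τ * x * τ⁻¹) = τ * (x * x) * τ⁻¹ by group, h.x_sq]; group
  · simpa using h.x_ne
  · intro q hq
    obtain ⟨a, ha, rfl⟩ := hmem hq
    rw [show τ * a * τ⁻¹ * (τ * x * τ⁻¹) = τ * (a * x) * τ⁻¹ by group, h.le_cent a ha]; group
  · intro p hp q hq
    obtain ⟨a, ha, rfl⟩ := hmem hp
    obtain ⟨b, hb, rfl⟩ := hmem hq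
    have e : τ * a * τ⁻¹ * (τ * b * τ⁻¹) * (τ * a * τ⁻¹)⁻¹ = τ * (a * b * a⁻¹) * τ⁻¹ := by group
    rcases h.comm a ha b hb with r | r <;> rw [e, r]
    · exact Or.inl rfl
    · right; group
  · intro p hp hall
    obtain ⟨a, ha, rfl⟩ := hmem hp
    rcases h.centre a ha (fun b hb => by
      have := hall _ (mk hb)
      rw [show τ * a * τ⁻¹ * (τ * b * τ⁻¹) = τ * (a * b) * τ⁻¹ by group,
        show τ * b * τ⁻¹ * (τ * a * τ⁻¹) = τ * (b * a) * τ⁻¹ by group] at this
      simpa using this) with r | r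
    · left; rw [r]; group
    · right; rw [r]
  · obtain ⟨a, ha, b, hb, hne⟩ := h.nonab
    refine ⟨_, mk ha, _, mk hb, fun e => hne ?_⟩
    rw [show τ * a * τ⁻¹ * (τ * b * τ⁻¹) = τ * (a * b) * τ⁻¹ by group,
      show τ * b * τ⁻¹ * (τ * a * τ⁻¹) = τ * (b * a) * τ⁻¹ by group] at e
    simpa using e
  · intro g hg q hq
    obtain ⟨a, ha, rfl⟩ := hmem hq
    have hc : (τ⁻¹ * g * τ) * x = x * (τ⁻¹ * g * τ) := by
      calc (τ⁻¹ * g * τ) * x = τ⁻¹ * (g * (τ * x * τ⁻¹)) * τ := by group
        _ = x * (τ⁻¹ * g * τ) := by rw [hg]; group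
    have := mk (h.norm _ hc a ha)
    simpa [mul_assoc] using this
  · intro g hg
    have := mk (h.cent (τ⁻¹ * g * τ) fun a ha => by
      have := hg _ (mk ha)
      calc τ⁻¹ * g * τ * a = τ⁻¹ * (g * (τ * a * τ⁻¹)) * τ := by group
        _ = a * (τ⁻¹ * g * τ) := by rw [this]; group)
    simpa [mul_assoc] using this

/-- The data: `R` is extraspecial of order `2^25` at `z`, and `lift` relates lattice vectors and
elements of `R`, compatibly with `π : C(z) → Co1`. -/
structure MData {G : Type*} [Group G] (z : G) (R : Subgroup G) where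
  good : Good R z
  card : Nat.card R = 2 ^ 25
  π : ↥(Subgroup.centralizer ({z} : Set G)) →* Spor.Co1
  π_surj : Function.Surjective π
  π_eq_one : ∀ c, π c = 1 ↔ (c : G) ∈ R
  lift : leechLattice → G → Prop
  lift_mem : ∀ {v x}, lift v x → x ∈ R
  lift_left : ∀ v, ∃ x, lift v x
  lift_right : ∀ {x}, x ∈ R → ∃ v, lift v x
  lift_cong : ∀ {v x}, lift v x → ∀ w, lift w x ↔ Cong w v
  lift_pair : ∀ {v x}, lift v x → ∀ y, lift v y ↔ y = x ∨ y = x * z
  lift_add : ∀ {v w x y}, lift v x → lift w y → lift (v + w) (x * y)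
  lift_conj : ∀ (c : ↥(Subgroup.centralizer ({z} : Set G))) (g : Co0),
    π c = QuotientGroup.mk g → ∀ {v x}, lift v x → lift (g • v) ((c : G) * x * (c : G)⁻¹)

namespace MData

variable {G : Type*} [Group G] {z : G} {R : Subgroup G} (D : MData z R)

theorem lift_zero : D.lift 0 1 := by
  obtain ⟨v, hv⟩ := D.lift_right R.one_mem
  have h := D.lift_add hv hv
  rw [mul_one] at h
  exact (D.lift_cong h 0).2 ⟨-v, by abel⟩

theorem lift_zero_iff (y : G) : D.lift 0 y ↔ y = 1 ∨ y = z := by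
  rw [D.lift_pair D.lift_zero, one_mul]

theorem sqNorm_neg_lattice (v : leechLattice) :
    sqNorm ((-v : leechLattice) : GolayPt → ℤ) = sqNorm (v : GolayPt → ℤ) := by
  rw [AddSubgroup.coe_neg, Leech.sqNorm_neg]

/-- Carrying the data along a conjugation. -/
def transport (τ : G) : MData (τ * z * τ⁻¹) (R.map (MulAut.conj τ).toMonoidHom) where
  good := good_map D.good τ
  card := by rw [Subgroup.card_map_of_injective (MulAut.conj τ).injective, D.card]
  π :=
    { toFun := fun c => D.π ⟨τ⁻¹ * c * τ, by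
        rw [Subgroup.mem_centralizer_singleton_iff]
        have h : (c : G) * (τ * z * τ⁻¹) = τ * z * τ⁻¹ * c := Subgroup.mem_centralizer_singleton_iff.1 c.2
        calc τ⁻¹ * c * τ * z = τ⁻¹ * (c * (τ * z * τ⁻¹)) * τ := by group
          _ = z * (τ⁻¹ * c * τ) := by rw [h]; group⟩
      map_one' := by rw [← map_one D.π]; congr 1; exact Subtype.ext (by simp)
      map_mul' := fun a b => by
        rw [← map_mul D.π]; congr 1
        exact Subtype.ext (by simp [mul_assoc]) }
  π_surj := fun p => by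
    obtain ⟨c, hc⟩ := D.π_surj p
    refine ⟨⟨τ * c * τ⁻¹, ?_⟩, ?_⟩
    · rw [Subgroup.mem_centralizer_singleton_iff]
      have h : (c : G) * z = z * c := Subgroup.mem_centralizer_singleton_iff.1 c.2
      calc τ * c * τ⁻¹ * (τ * z * τ⁻¹) = τ * (c * z) * τ⁻¹ := by group
        _ = τ * z * τ⁻¹ * (τ * c * τ⁻¹) := by rw [h]; group
    · rw [← hc]
      show D.π _ = D.π c
      congr 1
      exact Subtype.ext (by simp [mul_assoc])
  π_eq_one := fun c => by
    show D.π _ = 1 ↔ _
    rw [D.π_eq_one]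
    constructor
    · intro h; exact ⟨_, h, by simp [mul_assoc]⟩
    · rintro ⟨a, ha, e⟩
      have : τ⁻¹ * (c : G) * τ = a := by rw [← e]; simp [mul_assoc]
      show τ⁻¹ * (c : G) * τ ∈ R
      rw [this]; exact ha
  lift v x := D.lift v (τ⁻¹ * x * τ)
  lift_mem h := ⟨_, D.lift_mem h, by simp [mul_assoc]⟩
  lift_left v := by
    obtain ⟨x, hx⟩ := D.lift_left v
    exact ⟨τ * x * τ⁻¹, by simpa [mul_assoc] using hx⟩
  lift_right := by
    rintro _ ⟨a, ha, rfl⟩
    obtain ⟨v, hv⟩ := D.lift_right ha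
    exact ⟨v, by simpa [mul_assoc] using hv⟩
  lift_cong h w := D.lift_cong h w
  lift_pair {v x} h y := by
    show D.lift v _ ↔ _
    rw [D.lift_pair h]
    refine or_congr ⟨fun e => ?_, fun e => by rw [e]⟩ ⟨fun e => ?_, fun e => by rw [e]; group⟩
    · calc y = τ * (τ⁻¹ * y * τ) * τ⁻¹ := by group
        _ = x := by rw [e]; group
    · calc y = τ * (τ⁻¹ * y * τ) * τ⁻¹ := by group
        _ = x * (τ * z * τ⁻¹) := by rw [e]; group
  lift_add {v w x y} h h' := by
    show D.lift _ _
    have := D.lift_add h h'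
    simpa [mul_assoc] using this
  lift_conj c g hc {v x} h := by
    show D.lift _ _
    have := D.lift_conj _ g hc h
    simpa [mul_assoc] using this

/-- Changing coordinates by an element of `Co0`. -/
def recoord (g₀ : Co0) : MData z R where
  good := D.good
  card := D.card
  π := (MulAut.conj (QuotientGroup.mk g₀ : Spor.Co1)).toMonoidHom.comp D.π
  π_surj := (MulAut.conj (QuotientGroup.mk g₀ : Spor.Co1)).surjective.comp D.π_surj
  π_eq_one c := by
    rw [MonoidHom.comp_apply, MulEquiv.coe_toMonoidHom, EmbeddingLike.map_eq_one_iff, D.π_eq_one]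
  lift v x := D.lift (g₀⁻¹ • v) x
  lift_mem h := D.lift_mem h
  lift_left v := D.lift_left _
  lift_right hx := by
    obtain ⟨v, hv⟩ := D.lift_right hx
    exact ⟨g₀ • v, by rwa [inv_smul_smul]⟩
  lift_cong {v x} h w := by
    rw [D.lift_cong h]
    exact ⟨fun e => by simpa only [smul_inv_smul] using e.smul g₀, fun e => e.smul g₀⁻¹⟩
  lift_pair h y := D.lift_pair h y
  lift_add {v w x y} h h' := by
    rw [smul_add']
    exact D.lift_add h h'
  lift_conj c g hc {v x} h := by
    have hc' : D.π c = QuotientGroup.mk (g₀⁻¹ * g * g₀) := by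
      rw [MonoidHom.comp_apply, MulEquiv.coe_toMonoidHom, MulAut.conj_apply] at hc
      rw [QuotientGroup.mk_mul, QuotientGroup.mk_mul, QuotientGroup.mk_inv, ← hc]
      group
    have := D.lift_conj c _ hc' h
    rwa [← mul_smul, show g₀⁻¹ * g * g₀ * g₀⁻¹ = g₀⁻¹ * g by group, mul_smul] at this

variable [Finite G]

/-- The indicator of being nontrivial. -/
noncomputable def sgn (x : G) : ZMod 2 :=
  open scoped Classical in if x = 1 then 0 else 1

include D

omit [Finite G] in
theorem zz : z * z = 1 := D.good.x_sq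

theorem sgn_mul {x y : G} (hx : x = 1 ∨ x = z) (hy : y = 1 ∨ y = z) :
    sgn (x * y) = sgn x + sgn y := by
  have h1 := D.good.x_ne
  rcases hx with rfl | rfl <;> rcases hy with rfl | rfl <;>
    simp [sgn, h1, D.zz, CharTwo.add_self_eq_zero]

omit [Finite G] in
/-- The commutator of two elements of `R`. -/
theorem comm_cases {a b : G} (ha : a ∈ R) (hb : b ∈ R) :
    a * b * a⁻¹ * b⁻¹ = 1 ∨ a * b * a⁻¹ * b⁻¹ = z := by
  rcases D.good.comm a ha b hb with e | e
  · left; rw [e, mul_inv_cancel]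
  · right; rw [e, D.good.le_cent b hb]; group

/-- The squaring form on the lattice. -/
noncomputable def qf (v : leechLattice) : ZMod 2 :=
  sgn ((D.lift_left v).choose * (D.lift_left v).choose)

theorem qf_eq {v : leechLattice} {x : G} (h : D.lift v x) : D.qf v = sgn (x * x) := by
  have h0 := (D.lift_left v).choose_spec
  unfold qf
  rcases (D.lift_pair h _).1 h0 with e | e <;> rw [e]
  congr 1
  have hx := D.good.le_cent x (D.lift_mem h)
  calc x * z * (x * z) = x * (z * x) * z := by group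
    _ = x * (x * z) * z := by rw [hx]
    _ = x * x * (z * z) := by group
    _ = x * x := by rw [D.zz, mul_one]

theorem sgn_sq_mul {a b : G} (ha : a ∈ R) (hb : b ∈ R) :
    sgn (a * b * (a * b)) = sgn (a * a) + sgn (b * b) + sgn (b * a * b⁻¹ * a⁻¹) := by
  have hk := D.comm_cases hb ha
  have hz : ∀ u, (u = 1 ∨ u = z) → u * a = a * u := by
    rintro u (rfl | rfl)
    · simp
    · exact (D.good.le_cent a ha).symm
  have e : a * b * (a * b) = (b * a * b⁻¹ * a⁻¹) * (a * a * (b * b)) := by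
    calc a * b * (a * b) = a * ((b * a * b⁻¹ * a⁻¹) * a) * (b * b) := by group
      _ = (a * (b * a * b⁻¹ * a⁻¹)) * a * (b * b) := by group
      _ = ((b * a * b⁻¹ * a⁻¹) * a) * a * (b * b) := by rw [(hz _ hk).symm]
      _ = _ := by group
  have haa := D.good.sq_cases ha
  have hbb := D.good.sq_cases hb
  have hab : a * a * (b * b) = 1 ∨ a * a * (b * b) = z := by
    rcases haa with r | r <;> rcases hbb with r' | r' <;> simp [r, r', D.zz]
  rw [e, D.sgn_mul hk hab, D.sgn_mul haa hbb]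
  abel

theorem qf_add {v w : leechLattice} {a b : G} (ha : D.lift v a) (hb : D.lift w b) :
    D.qf (v + w) = D.qf v + D.qf w + sgn (b * a * b⁻¹ * a⁻¹) := by
  rw [D.qf_eq (D.lift_add ha hb), D.qf_eq ha, D.qf_eq hb, D.sgn_sq_mul (D.lift_mem ha) (D.lift_mem hb)]

theorem sgn_comm_mul {a b c : G} (ha : a ∈ R) (hb : b ∈ R) (hc : c ∈ R) :
    sgn (c * (a * b) * c⁻¹ * (a * b)⁻¹) = sgn (c * a * c⁻¹ * a⁻¹) + sgn (c * b * c⁻¹ * b⁻¹) := by
  have hk := D.comm_cases hc hb
  have hz : (c * b * c⁻¹ * b⁻¹) * a⁻¹ = a⁻¹ * (c * b * c⁻¹ * b⁻¹) := by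
    rcases hk with e | e <;> rw [e]
    · simp
    · exact (D.good.le_cent a⁻¹ (inv_mem ha)).symm
  have e : c * (a * b) * c⁻¹ * (a * b)⁻¹ = (c * a * c⁻¹ * a⁻¹) * (c * b * c⁻¹ * b⁻¹) := by
    calc c * (a * b) * c⁻¹ * (a * b)⁻¹ = c * a * c⁻¹ * ((c * b * c⁻¹ * b⁻¹) * a⁻¹) := by group
      _ = _ := by rw [hz]; group
  rw [e, D.sgn_mul (D.comm_cases hc ha) hk]

/-- The squaring form is the norm over 16 modulo 2. -/
theorem qf_value (v : leechLattice) :
    D.qf v = ((sqNorm (v : GolayPt → ℤ) / 16 : ℤ) : ZMod 2) := by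
  refine S5552.result D.qf ?_ ?_ ?_ ?_ v
  · intro v w
    obtain ⟨x, hx⟩ := D.lift_left v
    rw [D.qf_eq hx, D.qf_eq ((D.lift_cong hx _).2 ⟨w, rfl⟩)]
  · intro u v w
    obtain ⟨a, ha⟩ := D.lift_left u
    obtain ⟨b, hb⟩ := D.lift_left v
    obtain ⟨c, hc⟩ := D.lift_left w
    rw [D.qf_add (D.lift_add ha hb) hc, D.qf_add ha hc, D.qf_add hb hc, D.qf_add ha hb,
      D.sgn_comm_mul (D.lift_mem ha) (D.lift_mem hb) (D.lift_mem hc)]
    generalize D.qf u = p; generalize D.qf v = q; generalize D.qf w = r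
    generalize sgn (b * a * b⁻¹ * a⁻¹) = i; generalize sgn (c * a * c⁻¹ * a⁻¹) = j
    generalize sgn (c * b * c⁻¹ * b⁻¹) = k
    revert p q r i j k; decide
  · intro g v
    obtain ⟨x, hx⟩ := D.lift_left v
    obtain ⟨c, hc⟩ := D.π_surj (QuotientGroup.mk g)
    rw [D.qf_eq hx, D.qf_eq (D.lift_conj c g hc hx)]
    have hcz : (c : G) * z = z * c := Subgroup.mem_centralizer_singleton_iff.1 c.2
    rw [show (c : G) * x * (c : G)⁻¹ * ((c : G) * x * (c : G)⁻¹) = c * (x * x) * (c : G)⁻¹ by group]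
    rcases D.good.sq_cases (D.lift_mem hx) with e | e <;> rw [e]
    · simp
    · rw [hcz, mul_inv_cancel_right]
  · by_contra hno
    push Not at hno
    obtain ⟨a, ha, b, hb, hab⟩ := D.good.nonab
    refine hab ?_
    have hsq : ∀ x ∈ R, x * x = 1 := by
      intro x hx
      obtain ⟨v, hv⟩ := D.lift_right hx
      have := hno v
      rw [D.qf_eq hv] at this
      by_contra hne
      simp [sgn, hne] at this
    have h1 := hsq _ (mul_mem ha hb)
    calc a * b = (a * b)⁻¹ := (inv_eq_of_mul_eq_one_right h1).symm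
      _ = b⁻¹ * a⁻¹ := mul_inv_rev a b
      _ = b * a := by rw [inv_eq_of_mul_eq_one_right (hsq a ha), inv_eq_of_mul_eq_one_right (hsq b hb)]

/-- An element of `R` has square one exactly when the squared length is divisible by 32. -/
theorem sq_eq_one_iff {v : leechLattice} {x : G} (h : D.lift v x) :
    x * x = 1 ↔ (32 : ℤ) ∣ sqNorm (v : GolayPt → ℤ) := by
  have h1 := (D.qf_eq h).symm.trans (D.qf_value v)
  have h16 := Leech.sqNorm_dvd v.2
  constructor
  · intro e
    rw [e, sgn, if_pos rfl, eq_comm, ZMod.intCast_zmod_eq_zero_iff_dvd] at h1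
    omega
  · intro hd
    by_contra hne
    rw [sgn, if_neg hne, show ((sqNorm (v : GolayPt → ℤ) / 16 : ℤ) : ZMod 2) = 0 from
      (ZMod.intCast_zmod_eq_zero_iff_dvd _ 2).2 (by omega)] at h1
    exact one_ne_zero h1

/-- Elements with a representative of squared length `n`. -/
def typeSet (n : ℤ) : Set G := {x | ∃ v : leechLattice, sqNorm (v : GolayPt → ℤ) = n ∧ D.lift v x}

omit [Finite G] in
theorem typeSet_subset (n : ℤ) : D.typeSet n ⊆ R := fun _ ⟨_, _, h⟩ => D.lift_mem h

omit [Finite G] in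
theorem zero_of_sqNorm {v : leechLattice} (h : sqNorm (v : GolayPt → ℤ) = 0) : v = 0 :=
  Subtype.ext (Leech.sqNorm_eq_zero h)

omit [Finite G] in
theorem cong_norm {v w : leechLattice} (h : Cong v w) (hv : sqNorm (v : GolayPt → ℤ) ≤ 64)
    (hw : sqNorm (w : GolayPt → ℤ) ≤ 64) (hw0 : w ≠ 0) :
    sqNorm (v : GolayPt → ℤ) = sqNorm (w : GolayPt → ℤ) ∧
      (sqNorm (v : GolayPt → ℤ) < 64 → w = v ∨ w = -v) := by
  have hwn : (w : GolayPt → ℤ) ≠ 0 := fun e => hw0 (Subtype.ext e)
  by_cases hv0 : (v : GolayPt → ℤ) = 0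
  · exfalso
    obtain ⟨y, hy⟩ := h
    have e : (w : GolayPt → ℤ) = -((2 : ℕ) • (y : GolayPt → ℤ)) := by
      have := congrArg (fun u : leechLattice => (u : GolayPt → ℤ)) hy
      simp only [AddSubgroup.coe_add, hv0] at this
      rw [two_nsmul]
      exact eq_neg_of_add_eq_zero_left this.symm
    have hy0 : (y : GolayPt → ℤ) ≠ 0 := fun e' => hwn (by rw [e, e']; simp)
    have := Leech.sqNorm_min y.2 hy0
    rw [e, Leech.sqNorm_neg, S5551.sqNorm_two_smul] at hw
    omega
  · obtain ⟨y, hy⟩ := h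
    have := S5551.result _ _ v.2 w.2 hv0 hwn hv hw ⟨_, y.2, by
      rw [hy, two_nsmul, AddSubgroup.coe_add, AddSubgroup.coe_add, add_sub_cancel_left]⟩
    exact ⟨this.1, fun h => (this.2 h).imp (fun e => Subtype.ext e) (fun e => Subtype.ext e)⟩

omit [Finite G] in
theorem typeSet_disjoint {m n : ℤ} (hm : m ≤ 64) (hn : n ≤ 64) (hn0 : n ≠ 0) (hmn : m ≠ n) :
    Disjoint (D.typeSet m) (D.typeSet n) := by
  rw [Set.disjoint_left]
  rintro x ⟨v, hv, hvx⟩ ⟨w, hw, hwx⟩
  refine hmn ?_
  have := (D.cong_norm ((D.lift_cong hwx v).1 hvx) (hv.trans_le hm) (hw.trans_le hn)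
    (fun e => hn0 (by rw [← hw, e]; exact Leech.sqNorm_zero))).1
  rw [← hv, ← hw, this]

omit [Finite G] in
theorem typeSet_zero : D.typeSet 0 = {1, z} := by
  ext x
  constructor
  · rintro ⟨v, hv, h⟩
    rw [D.zero_of_sqNorm hv] at h
    simpa using (D.lift_zero_iff x).1 h
  · intro hx
    exact ⟨0, Leech.sqNorm_zero, (D.lift_zero_iff x).2 (by simpa using hx)⟩

theorem card_shell_le (n : ℤ) (k : ℕ)
    (hfin : {v : leechLattice | sqNorm (v : GolayPt → ℤ) = n}.Finite)
    (hk : ∀ v : leechLattice, sqNorm (v : GolayPt → ℤ) = n →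
      {w : leechLattice | sqNorm (w : GolayPt → ℤ) = n ∧ Cong w v}.ncard ≤ k) :
    2 * {v : leechLattice | sqNorm (v : GolayPt → ℤ) = n}.ncard ≤ k * (D.typeSet n).ncard := by
  classical
  choose X hX using D.lift_left
  let f : leechLattice × Bool → G := fun p => if p.2 then X p.1 * z else X p.1
  set S := {v : leechLattice | sqNorm (v : GolayPt → ℤ) = n}
  have hlift : ∀ p : leechLattice × Bool, D.lift p.1 (f p) := by
    rintro ⟨v, b⟩
    cases b
    · exact hX v
    · exact (D.lift_pair (hX v) _).2 (Or.inr rfl)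
  have h1 := EvenForm.ncard_le_mul_image f (hfin.prod (Set.finite_univ (α := Bool))) k (by
    rintro ⟨v, b⟩ ⟨hv, -⟩
    refine le_trans (Set.ncard_le_ncard_of_injOn Prod.fst ?_ ?_ (hfin.subset fun w hw => hw.1))
      (hk v hv)
    · rintro ⟨w, b'⟩ ⟨⟨hw, -⟩, hwe⟩
      refine ⟨hw, (D.lift_cong (hlift (v, b)) w).1 ?_⟩
      rw [← hwe]; exact hlift (w, b')
    · rintro ⟨w, c⟩ ⟨-, hc⟩ ⟨w', c'⟩ ⟨-, hc'⟩ rfl
      refine Prod.ext rfl ?_
      have e : f (w, c) = f (w, c') := hc.trans hc'.symm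
      have hz := D.good.x_ne
      cases c <;> cases c' <;> simp [f] at e ⊢ <;> exact absurd e (by simpa using hz))
  rw [Set.ncard_prod, Set.ncard_univ, Nat.card_eq_fintype_card, Fintype.card_bool] at h1
  refine le_trans (by rw [mul_comm]; exact h1) (Nat.mul_le_mul_left k (Set.ncard_le_ncard ?_
    (Set.toFinite _)))
  rintro _ ⟨⟨v, b⟩, ⟨hv, -⟩, rfl⟩
  exact ⟨v, hv, hlift (v, b)⟩

omit [Finite G] in
theorem shell_small_bound {n : ℤ} (hn : n < 64) (hn0 : n ≠ 0) {v : leechLattice}
    (hv : sqNorm (v : GolayPt → ℤ) = n) :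
    {w : leechLattice | sqNorm (w : GolayPt → ℤ) = n ∧ Cong w v}.ncard ≤ 2 := by
  refine le_trans (Set.ncard_le_ncard (t := {v, -v}) ?_ (Set.toFinite _))
    ((Set.ncard_insert_le _ _).trans (by rw [Set.ncard_singleton]))
  rintro w ⟨hw, hwv⟩
  rcases (D.cong_norm hwv.symm (hv.trans_le hn.le) (hw.trans_le hn.le)
    (fun e => hn0 (by rw [← hw, e]; exact Leech.sqNorm_zero))).2 (hv.trans_lt hn) with e | e
  · exact Or.inl e
  · exact Or.inr e

omit [Finite G] in
theorem shell64_bound {v : leechLattice} (hv : sqNorm (v : GolayPt → ℤ) = 64) :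
    {w : leechLattice | sqNorm (w : GolayPt → ℤ) = 64 ∧ Cong w v}.ncard ≤ 48 := by
  obtain ⟨g, hg⟩ := exists_smul64 v (pt8 none) hv (sqNorm_vec8 none)
  let cand : Finset (GolayPt → ℤ) := ((Finset.univ : Finset GolayPt) ×ˢ ({8, -8} : Finset ℤ)).image
    fun q : GolayPt × ℤ => Pi.single q.1 q.2
  calc _ ≤ (cand : Set (GolayPt → ℤ)).ncard := by
        refine Set.ncard_le_ncard_of_injOn (fun w => ((g • w : leechLattice) : GolayPt → ℤ)) ?_ ?_
          cand.finite_toSet
        · rintro w ⟨hw, hwv⟩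
          obtain ⟨i, s, hs, e⟩ := mem_stdCross_of_cong ((sqNorm_smul g w).trans hw)
            (hg ▸ hwv.smul g)
          exact Finset.mem_coe.2 (Finset.mem_image.2 ⟨(i, s),
            Finset.mem_product.2 ⟨Finset.mem_univ _, by simpa using hs⟩, e.symm⟩)
        · intro a _ b _ e
          exact smul_left_cancel g (Subtype.ext e)
    _ ≤ 48 := by
        rw [Set.ncard_coe_finset]
        exact Finset.card_image_le.trans (by simp)

/-- Every element of `R` is of type 0, 32, 48 or 64. -/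
theorem classify {x : G} (hx : x ∈ R) :
    (x = 1 ∨ x = z) ∨ x ∈ D.typeSet 32 ∨ x ∈ D.typeSet 48 ∨ x ∈ D.typeSet 64 := by
  have key : (R : Set G) = D.typeSet 0 ∪ D.typeSet 32 ∪ (D.typeSet 48 ∪ D.typeSet 64) := by
    refine (Set.eq_of_subset_of_ncard_le ?_ ?_ (Set.toFinite _)).symm
    · exact Set.union_subset (Set.union_subset (D.typeSet_subset _) (D.typeSet_subset _))
        (Set.union_subset (D.typeSet_subset _) (D.typeSet_subset _))
    · have d1 := D.typeSet_disjoint (m := 0) (n := 32) (by norm_num) (by norm_num) (by norm_num) (by norm_num)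
      have d2 := D.typeSet_disjoint (m := 48) (n := 64) (by norm_num) (by norm_num) (by norm_num) (by norm_num)
      have d3 : Disjoint (D.typeSet 0 ∪ D.typeSet 32) (D.typeSet 48 ∪ D.typeSet 64) := by
        simp only [Set.disjoint_union_left, Set.disjoint_union_right]
        exact ⟨⟨D.typeSet_disjoint (by norm_num) (by norm_num) (by norm_num) (by norm_num),
            D.typeSet_disjoint (by norm_num) (by norm_num) (by norm_num) (by norm_num)⟩,
          ⟨D.typeSet_disjoint (by norm_num) (by norm_num) (by norm_num) (by norm_num),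
            D.typeSet_disjoint (by norm_num) (by norm_num) (by norm_num) (by norm_num)⟩⟩
      rw [Set.ncard_union_eq d3, Set.ncard_union_eq d1, Set.ncard_union_eq d2, D.typeSet_zero,
        Set.ncard_pair (Ne.symm D.good.x_ne), ← Nat.card_coe_set_eq]
      show Nat.card R ≤ _
      rw [D.card]
      have s32 := ncard_subtype (fun x => sqNorm x = 32)
      rw [ncard_norm32] at s32
      have s48 := ncard_subtype (fun x => sqNorm x = 48)
      rw [ncard_norm48] at s48
      have s64 := ncard_subtype (fun x => sqNorm x = 64)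
      rw [ncard_norm64] at s64
      have c32 := D.card_shell_le 32 2 (Set.finite_of_ncard_ne_zero (by rw [s32]; norm_num))
        fun v hv => D.shell_small_bound (by norm_num) (by norm_num) hv
      have c48 := D.card_shell_le 48 2 (Set.finite_of_ncard_ne_zero (by rw [s48]; norm_num))
        fun v hv => D.shell_small_bound (by norm_num) (by norm_num) hv
      have c64 := D.card_shell_le 64 48 (Set.finite_of_ncard_ne_zero (by rw [s64]; norm_num))
        fun v hv => D.shell64_bound hv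
      rw [s32] at c32; rw [s48] at c48; rw [s64] at c64
      norm_num
      omega
  have h : x ∈ (R : Set G) := hx
  rw [key, D.typeSet_zero] at h
  simpa [or_assoc] using h

omit [Finite G] in
theorem type_ne {n : ℤ} (hn : n ≠ 0) (hn64 : n ≤ 64) {x : G} (h : x ∈ D.typeSet n) : x ≠ 1 ∧ x ≠ z := by
  have hd := Set.disjoint_left.1 (D.typeSet_disjoint (m := 0) (by norm_num) hn64 hn (Ne.symm hn))
  rw [D.typeSet_zero] at hd
  exact ⟨fun e => hd (by simp [e]) h, fun e => hd (by simp [e]) h⟩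

omit [Finite G] in
/-- An element fixing `v` in `Co0` is induced by one commuting with a given lift of `v`. -/
theorem exists_conj [Finite G] {n : ℤ} (hn : n ≠ 0) (hn64 : n ≤ 64) {v w : leechLattice} {x y : G}
    (hw : sqNorm (w : GolayPt → ℤ) = n) (hx : D.lift v x) (hy : D.lift w y) {g : Co0}
    (hg : g • v = w) :
    ∃ c : ↥(Subgroup.centralizer ({z} : Set G)), D.π c = QuotientGroup.mk g ∧
      (c : G) * x * (c : G)⁻¹ = y := by
  obtain ⟨c, hc⟩ := D.π_surj (QuotientGroup.mk g)
  have h := D.lift_conj c g hc hx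
  rw [hg] at h
  rcases (D.lift_pair hy _).1 h with e | e
  · exact ⟨c, hc, e⟩
  · obtain ⟨hy1, hy2⟩ := D.type_ne hn hn64 ⟨w, hw, hy⟩
    obtain ⟨q, hq, hqy⟩ := D.good.exists_move (D.lift_mem hy) hy1 hy2
    have hqc : q ∈ Subgroup.centralizer ({z} : Set G) :=
      Subgroup.mem_centralizer_singleton_iff.2 (D.good.le_cent q hq)
    refine ⟨⟨q, hqc⟩ * c, ?_, ?_⟩
    · rw [map_mul, (D.π_eq_one ⟨q, hqc⟩).2 hq, one_mul, hc]
    · show q * c * x * (q * c)⁻¹ = y
      calc q * c * x * (q * c)⁻¹ = q * (c * x * (c : G)⁻¹) * q⁻¹ := by group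
        _ = (q * y * q⁻¹) * (q * z * q⁻¹) := by rw [e]; group
        _ = y * (z * z) := by rw [hqy, D.good.le_cent q hq]; group
        _ = y := by rw [D.zz, mul_one]

/-- `C(z)` is transitive on each type. -/
theorem type_transitive {n : ℤ} (hn : n = 32 ∨ n = 48 ∨ n = 64) {x y : G}
    (hx : x ∈ D.typeSet n) (hy : y ∈ D.typeSet n) :
    ∃ h ∈ Subgroup.centralizer ({z} : Set G), h * x * h⁻¹ = y := by
  obtain ⟨v, hv, hvx⟩ := hx
  obtain ⟨w, hw, hwy⟩ := hy
  obtain ⟨g, hg⟩ : ∃ g : Co0, g • v = w := by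
    rcases hn with rfl | rfl | rfl
    exacts [exists_smul32 v w hv hw, exists_smul48 v w hv hw, exists_smul64 v w hv hw]
  obtain ⟨c, -, hc⟩ := D.exists_conj (by omega) (by omega) hw hvx hwy hg
  exact ⟨c, c.2, hc⟩

end MData

/-- The data attached to a group of Monster type. -/
theorem exists_mdata {G : Type*} [Group G] [Finite G] {z : G}
    {Q : Subgroup (Subgroup.centralizer ({z} : Set G))} [Q.Normal]
    (hS : IsExtraspecialCentralizerSetting z Q 12)
    {e : (Subgroup.centralizer ({z} : Set G)) ⧸ Q ≃* Spor.Co1} {ψ : leechLattice → Q ⧸ Subgroup.center Q}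
    (hψ : IsLeechModTwoIso Q e ψ) :
    ∃ D : MData z (Q.map (Subgroup.centralizer ({z} : Set G)).subtype),
      D.π = e.toMonoidHom.comp (QuotientGroup.mk' Q) ∧
      ∀ (v : leechLattice) (x : Q), D.lift v ((x : Subgroup.centralizer ({z} : Set G)) : G) ↔
        ψ v = QuotientGroup.mk x := by
  haveI : Fact (Nat.Prime 2) := ⟨Nat.prime_two⟩
  obtain ⟨hz2, hF, hE, hcard, -⟩ := hS
  obtain ⟨hadd, hsurj, hker, heq⟩ := hψ
  have hzC : z ∈ (Subgroup.centralizer ({z} : Set G)) := Subgroup.mem_centralizer_singleton_iff.2 rfl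
  have hcz : ∀ c : (Subgroup.centralizer ({z} : Set G)), (c : G) * z = z * c := fun c => Subgroup.mem_centralizer_singleton_iff.1 c.2
  have hcentQ : ∀ c : (Subgroup.centralizer ({z} : Set G)), (∀ q ∈ Q, c * q = q * c) → c ∈ Q := fun c hc => by
    rw [← hF]
    refine Components.centralizer_generalizedFittingSubgroup_le (Subgroup.mem_centralizer_iff.2 ?_)
    rw [hF]
    exact fun q hq => (hc q hq).symm
  have hzQ : (⟨z, hzC⟩ : (Subgroup.centralizer ({z} : Set G))) ∈ Q := hcentQ _ fun q _ => Subtype.ext (hcz q).symm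
  have hzc : (⟨_, hzQ⟩ : Q) ∈ Subgroup.center Q :=
    Subgroup.mem_center_iff.2 fun q => Subtype.ext (Subtype.ext (hcz _))
  have hz1 : z ≠ 1 := fun e => by rw [e, orderOf_one] at hz2; norm_num at hz2
  have hcen : ∀ q : Q, q ∈ Subgroup.center Q → ((q : (Subgroup.centralizer ({z} : Set G))) : G) = 1 ∨ ((q : (Subgroup.centralizer ({z} : Set G))) : G) = z := by
    intro q hq
    rw [← Extraspecial.zpowers_eq_center hE hzc (fun e => hz1 (congrArg (fun u : Q => ((u : (Subgroup.centralizer ({z} : Set G))) : G)) e))] at hq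
    rcases eq_or_of_mem_zpowers (x := (⟨_, hzQ⟩ : Q)) (Subtype.ext (Subtype.ext (by
      show z * z = 1; rw [← pow_two, ← hz2]; exact pow_orderOf_eq_one z))) hq with r | r
    · left; rw [r]; rfl
    · right; rw [r]
  have hpair : ∀ a b : Q, (QuotientGroup.mk a : Q ⧸ Subgroup.center Q) = QuotientGroup.mk b ↔
      ((b : (Subgroup.centralizer ({z} : Set G))) : G) = (a : (Subgroup.centralizer ({z} : Set G))) ∨ ((b : (Subgroup.centralizer ({z} : Set G))) : G) = (a : (Subgroup.centralizer ({z} : Set G))) * z := by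
    intro a b
    rw [QuotientGroup.eq]
    constructor
    · intro h
      rcases hcen _ h with r | r
      · left
        simp only [Subgroup.coe_mul, Subgroup.coe_inv] at r
        exact (inv_mul_eq_one.1 r).symm
      · right
        simp only [Subgroup.coe_mul, Subgroup.coe_inv] at r
        exact inv_mul_eq_iff_eq_mul.1 r
    · rintro (r | r)
      · rw [show a⁻¹ * b = 1 from Subtype.ext (Subtype.ext (by simp [r]))]
        exact one_mem _
      · rw [show a⁻¹ * b = ⟨_, hzQ⟩ from Subtype.ext (Subtype.ext (by simp [r]))]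
        exact hzc
  have hψ0 : ∀ v w : leechLattice, ψ w = ψ v ↔ Cong w v := by
    intro v w
    have h : ψ w = ψ (w - v) * ψ v := by rw [← hadd, sub_add_cancel]
    rw [h, mul_eq_right, hker]
    exact exists_congr fun y => ⟨fun e => by rw [← e]; abel, fun e => by rw [e]; abel⟩
  refine ⟨
    { good :=
        { x_mem := ⟨_, hzQ, rfl⟩
          x_sq := by rw [← pow_two, ← hz2]; exact pow_orderOf_eq_one z
          x_ne := hz1
          le_cent := by rintro _ ⟨q, -, rfl⟩; exact hcz q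
          comm := by
            rintro _ ⟨a, ha, rfl⟩ _ ⟨b, hb, rfl⟩
            rcases hcen _ (Extraspecial.commutator_mem_center hE ⟨a, ha⟩ ⟨b, hb⟩) with r | r <;>
              simp only [commutatorElement_def, Subgroup.coe_mul, Subgroup.coe_inv] at r
            · left; exact mul_inv_eq_one.1 r
            · right; rw [Subgroup.coe_subtype, hcz b]; exact mul_inv_eq_iff_eq_mul.1 r
          centre := by
            rintro _ ⟨a, ha, rfl⟩ h
            exact hcen ⟨a, ha⟩ (Subgroup.mem_center_iff.2 fun b =>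
              Subtype.ext (Subtype.ext (h _ ⟨b, b.2, rfl⟩).symm))
          nonab := by
            obtain ⟨a, b, hab⟩ := Extraspecial.exists_not_commute hE
            exact ⟨_, ⟨a, a.2, rfl⟩, _, ⟨b, b.2, rfl⟩, fun e => hab (Subtype.ext (Subtype.ext e))⟩
          norm := by
            rintro g hg _ ⟨q, hq, rfl⟩
            exact ⟨_, (inferInstance : Q.Normal).conj_mem q hq
              ⟨g, Subgroup.mem_centralizer_singleton_iff.2 hg⟩, rfl⟩
          cent := by
            intro g hg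
            have hgz := hg z ⟨_, hzQ, rfl⟩
            exact ⟨⟨g, Subgroup.mem_centralizer_singleton_iff.2 hgz⟩,
              hcentQ _ fun q hq => Subtype.ext (hg _ ⟨q, hq, rfl⟩), rfl⟩ }
      card := by rw [Subgroup.card_map_of_injective (Subgroup.centralizer ({z} : Set G)).subtype_injective, hcard]
      π := e.toMonoidHom.comp (QuotientGroup.mk' Q)
      π_surj := e.surjective.comp (QuotientGroup.mk'_surjective Q)
      π_eq_one := fun c => by
        rw [MonoidHom.comp_apply, MulEquiv.coe_toMonoidHom, EmbeddingLike.map_eq_one_iff,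
          QuotientGroup.mk'_apply, QuotientGroup.eq_one_iff]
        exact ⟨fun h => ⟨c, h, rfl⟩, fun ⟨q, hq, r⟩ => Subtype.ext r ▸ hq⟩
      lift := fun v x => ∃ q : Q, ψ v = QuotientGroup.mk q ∧ ((q : (Subgroup.centralizer ({z} : Set G))) : G) = x
      lift_mem := fun ⟨q, _, r⟩ => r ▸ ⟨q, q.2, rfl⟩
      lift_left := fun v => by
        obtain ⟨q, hq⟩ := QuotientGroup.mk_surjective (ψ v)
        exact ⟨_, q, hq.symm, rfl⟩
      lift_right := by
        rintro _ ⟨q, hq, rfl⟩
        obtain ⟨v, hv⟩ := hsurj (QuotientGroup.mk ⟨q, hq⟩)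
        exact ⟨v, _, hv, rfl⟩
      lift_cong := by
        rintro v x ⟨q, hq, rfl⟩ w
        rw [← hψ0, hq]
        exact ⟨fun ⟨p, hp, r⟩ => by rw [hp, Subtype.ext (Subtype.ext r)], fun h => ⟨q, h, rfl⟩⟩
      lift_pair := by
        rintro v x ⟨q, hq, rfl⟩ y
        constructor
        · rintro ⟨p, hp, rfl⟩
          exact (hpair q p).1 (hq.symm.trans hp)
        · rintro (rfl | rfl)
          · exact ⟨q, hq, rfl⟩
          · exact ⟨q * ⟨_, hzQ⟩, hq.trans ((hpair _ _).2 (Or.inr rfl)), rfl⟩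
      lift_add := by
        rintro v w x y ⟨p, hp, rfl⟩ ⟨q, hq, rfl⟩
        exact ⟨p * q, by rw [hadd, hp, hq]; rfl, rfl⟩
      lift_conj := by
        rintro c g hc v x ⟨q, hq, rfl⟩
        exact ⟨_, heq c g hc.symm v q hq, rfl⟩ }, rfl, fun v x => ?_⟩
  exact ⟨fun ⟨p, hp, r⟩ => by rw [hp, Subtype.ext (Subtype.ext r)], fun h => ⟨x, h, rfl⟩⟩

end Cfsg.Agent.Lib.MonsterType
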