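import Cfsg.Agent.Lib.MonsterType.Pair

/-!
An element of odd prime order in the centraliser of `z`: its centraliser in the extraspecial group, and
lifts of automorphisms normalising its image.
-/

set_option autoImplicit false

namespace Cfsg.Agent.Lib.MonsterType

open Cfsg
open Cfsg.Agent.Lib
open Cfsg.Agent.Lib.Leech
open Cfsg.Agent.Lib.LargeExtra

theorem cong_add {a b c d : leechLattice} : Cong a b → Cong c d → Cong (a + c) (b + d) := by
  rintro ⟨x, rfl⟩ ⟨y, rfl⟩; exact ⟨x + y, by abel⟩

theorem cong_sum {ι : Type*} (s : Finset ι) {f g : ι → leechLattice} (h : ∀ i ∈ s, Cong (f i) (g i)) :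
    Cong (∑ i ∈ s, f i) (∑ i ∈ s, g i) := by
  classical
  induction s using Finset.induction_on with
  | empty => exact cong_refl _
  | insert a s ha ih =>
    rw [Finset.sum_insert ha, Finset.sum_insert ha]
    exact cong_add (h a (Finset.mem_insert_self a s)) (ih fun i hi => h i (Finset.mem_insert_of_mem hi))

/-- Two elements of order `p` of a group whose order has `p`-part `p` generate conjugate subgroups. -/
theorem exists_conj_pow {G : Type*} [Group G] [Finite G] {p : ℕ} [hp : Fact p.Prime] {H : Subgroup G}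
    (h1 : (Nat.card H).factorization p = 1) {x y : G} (hx : x ∈ H) (hy : y ∈ H)
    (hxo : orderOf x = p) (hyo : orderOf y = p) :
    ∃ g ∈ H, ∃ i : ℕ, g * x * g⁻¹ = y ^ i := by
  have hcard : ∀ {w : G} (hw : w ∈ H), orderOf w = p →
      Nat.card (Subgroup.zpowers (⟨w, hw⟩ : H)) = p ^ (Nat.card H).factorization p := by
    intro w hw ho
    rw [Nat.card_zpowers, h1, pow_one, ← ho]
    exact (orderOf_injective H.subtype H.subtype_injective _).symm
  let P : Sylow p H := Sylow.ofCard _ (hcard hx hxo)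
  let Q : Sylow p H := Sylow.ofCard _ (hcard hy hyo)
  obtain ⟨g, hg⟩ := MulAction.exists_smul_eq H P Q
  have hmem : g * ⟨x, hx⟩ * g⁻¹ ∈ (Q : Subgroup H) := by
    rw [← hg]
    exact ⟨⟨x, hx⟩, Subgroup.mem_zpowers _, rfl⟩
  rw [Sylow.coe_ofCard, ← mem_powers_iff_mem_zpowers] at hmem
  obtain ⟨i, hi⟩ := hmem
  exact ⟨g, g.2, i, (congrArg Subtype.val hi).symm⟩

theorem pow_p_smul {k : Co0} {p : ℕ} (hkp : k ^ p = 1) (v : leechLattice) :
    k • (∑ i ∈ Finset.range p, k ^ i • v) = ∑ i ∈ Finset.range p, k ^ i • v := by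
  rw [smul_sum']
  simp only [← mul_smul, ← pow_succ']
  have h1 := Finset.sum_range_succ (fun i => k ^ i • v) p
  have h2 := Finset.sum_range_succ' (fun i => k ^ i • v) p
  rw [h1, hkp, pow_zero] at h2
  exact add_right_cancel h2.symm

section

variable {G : Type*} [Group G] [Finite G] {z : G} {R : Subgroup G} (D : MData z R)
  {p : ℕ} [hp : Fact p.Prime] (hp2 : p ≠ 2) {b : ↥(Subgroup.centralizer ({z} : Set G))}
  {k : Co0} (hbp : b ^ p = 1) (hπ : D.π b = QuotientGroup.mk k) (hk : (QuotientGroup.mk k : Spor.Co1) ≠ 1)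

include D hp2

theorem eq_one_of_pow_eq_one {x : G} (hx : x ∈ R) (hxp : x ^ p = 1) : x = 1 := by
  have h2 : x ^ (2 ^ 25) = 1 := by
    have h : (⟨x, hx⟩ : R) ^ Nat.card R = 1 := pow_card_eq_one'
    rw [D.card] at h
    simpa using congrArg Subtype.val h
  have hg : Nat.gcd (2 ^ 25) p = 1 :=
    Nat.Coprime.pow_left 25 ((Nat.coprime_primes Nat.prime_two hp.out).2 (Ne.symm hp2))
  have := pow_gcd_eq_one.2 ⟨h2, hxp⟩
  rwa [hg, pow_one] at this

include hbp in
theorem pow_eq_of_map_eq {i j : ℕ} (h : D.π (b ^ i) = D.π (b ^ j)) : b ^ i = b ^ j := by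
  have h1 : (((b ^ i)⁻¹ * b ^ j : ↥(Subgroup.centralizer ({z} : Set G))) : G) ∈ R :=
    (D.π_eq_one _).1 (by rw [map_mul, map_inv, h, inv_mul_cancel])
  have h2 : ((b ^ i)⁻¹ * b ^ j) ^ p = 1 := by
    rw [(((Commute.refl b).pow_pow i j).inv_left).mul_pow, inv_pow, ← pow_mul, ← pow_mul, mul_comm i,
      mul_comm j, pow_mul, pow_mul, hbp, one_pow, one_pow, inv_one, one_mul]
  have := eq_one_of_pow_eq_one D hp2 h1 (by simpa using congrArg Subtype.val h2)
  exact inv_mul_eq_one.1 (Subtype.ext (by simpa using this))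

include hbp hπ

omit hp2 in
theorem lift_conj_b {v : leechLattice} {q : G} (h : D.lift v q) :
    D.lift (k • v) ((b : G) * q * (b : G)⁻¹) :=
  D.lift_conj b k hπ h

/-- The elements of `R` commuting with `b` are the lifts of fixed vectors. -/
theorem commute_iff_fixed (hkp : k ^ p = 1) {q : G} (hq : q ∈ R) :
    q * b = b * q ↔ ∃ v, k • v = v ∧ D.lift v q := by
  constructor
  · intro h
    obtain ⟨v, hv⟩ := D.lift_right hq
    have hb : (b : G) * q * (b : G)⁻¹ = q := conj_eq_iff_comm.2 h.symm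
    have hl := lift_conj_b D hbp hπ hv
    rw [hb] at hl
    have hc : Cong (k • v) v := (D.lift_cong hv _).1 hl
    have hi : ∀ i, Cong (k ^ i • v) v := by
      intro i
      induction i with
      | zero => rw [pow_zero, one_smul]; exact cong_refl v
      | succ i ih => rw [pow_succ', mul_smul]; exact (ih.smul k).trans hc
    refine ⟨_, pow_p_smul hkp v, (D.lift_cong hv _).2 ((cong_sum _ fun i _ => hi i).trans ?_)⟩
    rw [Finset.sum_const, Finset.card_range]
    obtain ⟨m, hm⟩ := hp.out.odd_of_ne_two hp2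
    exact ⟨m • v, by rw [hm, add_nsmul, one_nsmul, two_mul, add_nsmul, add_comm]⟩
  · rintro ⟨v, hfix, hv⟩
    have hl := lift_conj_b D hbp hπ hv
    rw [hfix] at hl
    rcases (D.lift_pair hv _).1 hl with e | e
    · exact (conj_eq_iff_comm.1 e).symm
    · exfalso
      have hbz : Commute (b : G) z := Subgroup.mem_centralizer_singleton_iff.1 b.2
      have hi : ∀ i : ℕ, (b : G) ^ i * q * ((b : G) ^ i)⁻¹ = q * z ^ i := by
        intro i
        induction i with
        | zero => simp
        | succ i ih =>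
          calc (b : G) ^ (i + 1) * q * ((b : G) ^ (i + 1))⁻¹
              = b * ((b : G) ^ i * q * ((b : G) ^ i)⁻¹) * (b : G)⁻¹ := by rw [pow_succ']; group
            _ = (b * q * (b : G)⁻¹) * (b * z ^ i * (b : G)⁻¹) := by rw [ih]; group
            _ = q * z * z ^ i := by rw [e, (hbz.pow_right i).eq, mul_inv_cancel_right]
            _ = q * z ^ (i + 1) := by rw [pow_succ', mul_assoc]
      have := hi p
      have hb1 : (b : G) ^ p = 1 := by simpa using congrArg Subtype.val hbp
      rw [hb1, inv_one, one_mul, mul_one] at this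
      obtain ⟨m, hm⟩ := hp.out.odd_of_ne_two hp2
      rw [hm, pow_succ, pow_mul, pow_two, D.good.x_sq, one_pow, one_mul] at this
      exact D.good.x_ne (left_eq_mul.1 this)

include hk

theorem orderOf_b : orderOf b = p :=
  orderOf_eq_prime hbp fun e => hk (by rw [← hπ, e, map_one])

/-- An automorphism normalising the image of `b` is induced by an element normalising `b`. -/
theorem exists_lift {k' : Co0} {n : ℕ} (hn : ¬ p ∣ n) (hk' : k' * k * k'⁻¹ = k ^ n) :
    ∃ c, D.π c = QuotientGroup.mk k' ∧ c * b * c⁻¹ = b ^ n := by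
  obtain ⟨c0, hc0⟩ := D.π_surj (QuotientGroup.mk k')
  have hconj : D.π (c0 * b * c0⁻¹) = D.π b ^ n := by
    rw [map_mul, map_mul, map_inv, hc0, hπ, ← QuotientGroup.mk_inv, ← QuotientGroup.mk_mul,
      ← QuotientGroup.mk_mul, hk', QuotientGroup.mk_pow]
  let P := (Subgroup.zpowers (D.π b)).comap D.π
  have hcard : Nat.card P = 2 ^ 25 * p := by
    let f : P →* Spor.Co1 := D.π.comp P.subtype
    have hr : f.range = Subgroup.zpowers (D.π b) := by
      rw [MonoidHom.range_comp, Subgroup.range_subtype,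
        Subgroup.map_comap_eq_self_of_surjective D.π_surj]
    have hker : Nat.card f.ker = 2 ^ 25 := by
      rw [← D.card]
      refine Nat.card_congr
        { toFun := fun x => ⟨x.1.1.1, (D.π_eq_one x.1.1).1 x.2⟩
          invFun := fun r => ⟨⟨⟨r.1, Subgroup.mem_centralizer_singleton_iff.2 (D.good.le_cent r.1 r.2)⟩,
            by
              show D.π ⟨r.1, Subgroup.mem_centralizer_singleton_iff.2 (D.good.le_cent r.1 r.2)⟩ ∈
                Subgroup.zpowers (D.π b)
              rw [(D.π_eq_one ⟨r.1, _⟩).2 r.2]; exact one_mem _⟩,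
            (D.π_eq_one ⟨r.1, Subgroup.mem_centralizer_singleton_iff.2 (D.good.le_cent r.1 r.2)⟩).2 r.2⟩
          left_inv := fun x => rfl
          right_inv := fun r => rfl }
    have hord : orderOf (D.π b) = p := orderOf_eq_prime (by rw [← map_pow, hbp, map_one]) (by rwa [hπ])
    rw [← Subgroup.card_mul_index f.ker, Subgroup.index_ker, hr, hker, Nat.card_zpowers, hord]
  have hfac : (Nat.card P).factorization p = 1 := by
    rw [hcard, Nat.factorization_mul (by norm_num) hp.out.ne_zero, Finsupp.add_apply,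
      Nat.factorization_pow, Nat.Prime.factorization_self hp.out, Finsupp.smul_apply,
      Nat.Prime.factorization Nat.prime_two, Finsupp.single_eq_of_ne hp2, smul_zero, zero_add]
  have hbP : b ∈ P := Subgroup.mem_zpowers _
  have hcP : c0 * b * c0⁻¹ ∈ P := by
    show D.π _ ∈ Subgroup.zpowers (D.π b)
    rw [hconj]
    exact Subgroup.npow_mem_zpowers _ n
  obtain ⟨d, hd, i, hi⟩ := exists_conj_pow hfac hcP hbP
    ((orderOf_injective (MulAut.conj c0).toMonoidHom (MulAut.conj c0).injective b).trans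
      (orderOf_b D hp2 hbp hπ hk))
    (orderOf_b D hp2 hbp hπ hk)
  obtain ⟨j, hj⟩ := Subgroup.mem_zpowers_iff.1 (show D.π d ∈ Subgroup.zpowers (D.π b) from hd)
  refine ⟨b ^ (-j) * d * c0, ?_, ?_⟩
  · rw [map_mul, map_mul, map_zpow, ← hj, zpow_neg, inv_mul_cancel, one_mul, hc0]
  · have e : b ^ (-j) * d * c0 * b * (b ^ (-j) * d * c0)⁻¹ = b ^ i := by
      calc b ^ (-j) * d * c0 * b * (b ^ (-j) * d * c0)⁻¹
          = b ^ (-j) * (d * (c0 * b * c0⁻¹) * d⁻¹) * (b ^ (-j))⁻¹ := by group
        _ = b ^ i := by rw [hi, ((Commute.refl b).pow_right i).zpow_left (-j) |>.eq, mul_inv_cancel_right]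
    rw [e]
    refine pow_eq_of_map_eq D hp2 hbp ?_
    rw [← hi, map_mul, map_mul, map_inv, hconj, map_pow, ← hj]
    exact (((Commute.refl (D.π b)).pow_right n).zpow_left j).mul_inv_cancel.symm ▸ rfl

omit hk in
/-- An element centralising `b` induces an automorphism centralising `k`. -/
theorem comm_of_centralizing (hkp : k ^ p = 1) {c : ↥(Subgroup.centralizer ({z} : Set G))}
    (hcb : c * b = b * c) {k' : Co0} (hc : D.π c = QuotientGroup.mk k') : k' * k = k * k' := by
  have h : (QuotientGroup.mk (k' * k * k'⁻¹) : Spor.Co1) = QuotientGroup.mk k := by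
    rw [QuotientGroup.mk_mul, QuotientGroup.mk_mul, QuotientGroup.mk_inv, ← hc, ← hπ, ← map_mul, hcb,
      map_mul, mul_inv_cancel_right]
  rcases center_cases (QuotientGroup.eq.1 h.symm) with r | r
  · exact conj_eq_iff_comm.1 (inv_mul_eq_one.1 r).symm
  · exfalso
    have e : k' * k * k'⁻¹ = k * negCo := inv_mul_eq_iff_eq_mul.1 r
    have hpow : (k' * k * k'⁻¹) ^ p = 1 := by rw [conj_pow, hkp]; group
    rw [e, (show Commute k negCo from (Subgroup.mem_center_iff.1 negCo_mem_center k)).mul_pow, hkp,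
      one_mul] at hpow
    obtain ⟨m, hm⟩ := hp.out.odd_of_ne_two hp2
    rw [hm, pow_succ, pow_mul, pow_two, signs_sq negCo_mem_signs, one_pow, one_mul] at hpow
    exact negCo_ne_one hpow

end

end Cfsg.Agent.Lib.MonsterType
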