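import Cfsg.Agent.Lib.MonsterType.OddLift
import Cfsg.Agent.Lib.MonsterType.Baby

/-!
The centraliser of `b` modulo `⟨b⟩`, for `b` of odd prime order commuting with `z`: the centraliser of
the image of `z` is the image of the joint centraliser.
-/

set_option autoImplicit false

namespace Cfsg.Agent.Lib.MonsterType.OddQuot

open Cfsg
open Cfsg.Agent.Lib
open Cfsg.Agent.Lib.LargeExtra

variable {G : Type*} [Group G] {z b : G}

theorem mem_centralizer_zpowers {c : G} :
    c ∈ Subgroup.centralizer (Subgroup.zpowers b : Set G) ↔ c * b = b * c := by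
  constructor
  · intro h; exact (Subgroup.mem_centralizer_iff.1 h b (Subgroup.mem_zpowers b)).symm
  · intro h
    refine Subgroup.mem_centralizer_iff.2 ?_
    rintro a ⟨i, rfl⟩
    exact ((Commute.zpow_right (h : Commute c b) i).eq).symm

theorem cz_le : cz z b ≤ Subgroup.centralizer (Subgroup.zpowers b : Set G) := fun _ hc =>
  mem_centralizer_zpowers.2 (Subgroup.mem_centralizer_singleton_iff.1 hc.2)

theorem mem_cz_iff {c : G} : c ∈ cz z b ↔ c * z = z * c ∧ c * b = b * c :=
  and_congr Subgroup.mem_centralizer_singleton_iff Subgroup.mem_centralizer_singleton_iff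

variable {p : ℕ} [hp : Fact p.Prime] (hp2 : p ≠ 2) (hbp : b ^ p = 1) (hzb : z * b = b * z)

/-- `z`, as an element of the centraliser of `b`. -/
def zH : Subgroup.centralizer (Subgroup.zpowers b : Set G) := ⟨z, mem_centralizer_zpowers.2 hzb⟩

variable [hn : ((Subgroup.zpowers b).subgroupOf
  (Subgroup.centralizer (Subgroup.zpowers b : Set G))).Normal]

/-- The involution of the quotient. -/
def zbar : Subgroup.centralizer (Subgroup.zpowers b : Set G) ⧸
    (Subgroup.zpowers b).subgroupOf (Subgroup.centralizer (Subgroup.zpowers b : Set G)) :=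
  QuotientGroup.mk (zH hzb)

/-- The map onto the centraliser in the quotient. -/
def phi : cz z b →* Subgroup.centralizer ({zbar hzb} : Set _) :=
  ((QuotientGroup.mk' _).comp (Subgroup.inclusion cz_le)).codRestrict _ fun c =>
    Subgroup.mem_centralizer_singleton_iff.2 (congrArg
      (QuotientGroup.mk (s := (Subgroup.zpowers b).subgroupOf
        (Subgroup.centralizer (Subgroup.zpowers b : Set G))))
      (Subtype.ext (mem_cz_iff.1 c.2).1 :
        Subgroup.inclusion cz_le c * zH hzb = zH hzb * Subgroup.inclusion cz_le c))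

theorem mk_eq_iff (a c : Subgroup.centralizer (Subgroup.zpowers b : Set G)) :
    (QuotientGroup.mk a : Subgroup.centralizer (Subgroup.zpowers b : Set G) ⧸
      (Subgroup.zpowers b).subgroupOf (Subgroup.centralizer (Subgroup.zpowers b : Set G))) =
        QuotientGroup.mk c ↔ ∃ i : ℤ, (c : G) = a * b ^ i := by
  rw [QuotientGroup.eq, Subgroup.mem_subgroupOf, Subgroup.coe_mul, Subgroup.coe_inv,
    Subgroup.mem_zpowers_iff]
  exact exists_congr fun i =>
    ⟨fun e => by rw [e]; group, fun e => by rw [e]; group⟩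

omit hn in
theorem b_mem_cz (hzb : z * b = b * z) : b ∈ cz z b := mem_cz_iff.2 ⟨hzb.symm, rfl⟩

theorem phi_eq_iff (a c : cz z b) : phi hzb a = phi hzb c ↔ ∃ i : ℤ, (c : G) = a * b ^ i :=
  Subtype.ext_iff.trans (mk_eq_iff (Subgroup.inclusion cz_le a) (Subgroup.inclusion cz_le c))

theorem phi_one_iff (a : cz z b) : phi hzb a = 1 ↔ (a : G) ∈ Subgroup.zpowers b := by
  rw [eq_comm, ← map_one (phi hzb), phi_eq_iff, Subgroup.mem_zpowers_iff]
  simp [eq_comm]

include hp2 hbp hzb

omit hn in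
/-- An involution times a power of `b` is an involution only for the trivial power. -/
theorem zpow_eq_one {x : G} (hxb : x * b = b * x) (hxx : x * x = 1) {i : ℤ}
    (h : (x * b ^ i) * (x * b ^ i) = 1) : b ^ i = 1 := by
  have hc : Commute x (b ^ i) := Commute.zpow_right hxb i
  rw [← mul_assoc, mul_assoc x (b ^ i) x, ← hc.eq, ← mul_assoc, hxx, one_mul] at h
  obtain ⟨m, hm⟩ := hp.out.odd_of_ne_two hp2
  have hp1 : (b ^ i) ^ p = 1 := by
    rw [← zpow_natCast (b ^ i) p, ← zpow_mul, mul_comm, zpow_mul, zpow_natCast, hbp, one_zpow]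
  rwa [hm, pow_succ, pow_mul, pow_two, h, one_pow, one_mul] at hp1

theorem phi_surjective (hzz : z * z = 1) : Function.Surjective (phi hzb) := by
  rintro ⟨q, hq⟩
  obtain ⟨h, rfl⟩ := QuotientGroup.mk_surjective q
  obtain ⟨i, hi⟩ := (mk_eq_iff (zH hzb * h) (h * zH hzb)).1
    (Subgroup.mem_centralizer_singleton_iff.1 hq).symm
  simp only [Subgroup.coe_mul, zH] at hi
  have hb := mem_centralizer_zpowers.1 h.2
  have hconj : (h : G) * z * (h : G)⁻¹ = z * b ^ i := by
    rw [hi, mul_assoc z (h : G), (Commute.zpow_right (hb : Commute (h : G) b) i).eq]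
    group
  have hb1 : b ^ i = 1 := by
    refine zpow_eq_one hp2 hbp hzb hzb hzz ?_
    rw [← hconj]
    calc (h : G) * z * (h : G)⁻¹ * ((h : G) * z * (h : G)⁻¹) = h * (z * z) * (h : G)⁻¹ := by group
      _ = 1 := by rw [hzz]; group
  rw [hb1, mul_one] at hi
  exact ⟨⟨h, mem_cz_iff.2 ⟨hi, hb⟩⟩, Subtype.ext rfl⟩

theorem zbar_ne_one (hz1 : z ≠ 1) (hzz : z * z = 1) : zbar hzb ≠ 1 := by
  intro e
  obtain ⟨i, hi⟩ := (mk_eq_iff 1 (zH hzb)).1 e.symm
  simp only [OneMemClass.coe_one, one_mul, zH] at hi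
  refine hz1 (hi.trans (zpow_eq_one hp2 hbp hzb (x := 1) (by simp) (one_mul 1) ?_))
  rw [one_mul, ← hi, hzz]

/-- Conjugates of the involution meeting the image: the conjugating element can centralise `b`. -/
theorem isConj_phi_iff (hz1 : z ≠ 1) (hzz : z * z = 1) {x : cz z b} (hxx : (x : G) * x = 1 ∨ (x : G) * x = z) :
    IsConj (zbar hzb) (phi hzb x : _ ⧸ _) ↔
      ∃ h : G, h * b = b * h ∧ h * z * h⁻¹ = (x : G) := by
  have hxb := (mem_cz_iff.1 x.2).2
  constructor
  · intro hconj
    obtain ⟨q, hq⟩ := _root_.isConj_iff.1 hconj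
    obtain ⟨h, rfl⟩ := QuotientGroup.mk_surjective q
    obtain ⟨i, hi⟩ := (mk_eq_iff (Subgroup.inclusion cz_le x) (h * zH hzb * h⁻¹)).1 hq.symm
    simp only [Subgroup.coe_mul, Subgroup.coe_inv, zH, Subgroup.coe_inclusion] at hi
    have hinv : ((x : G) * b ^ i) * ((x : G) * b ^ i) = 1 := by
      rw [← hi]
      calc (h : G) * z * (h : G)⁻¹ * ((h : G) * z * (h : G)⁻¹) = h * (z * z) * (h : G)⁻¹ := by group
        _ = 1 := by rw [hzz]; group
    have hx1 : (x : G) * x = 1 := by
      rcases hxx with e | e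
      · exact e
      · exfalso
        have hc : Commute (x : G) (b ^ i) := Commute.zpow_right hxb i
        rw [← mul_assoc, mul_assoc (x : G) (b ^ i), ← hc.eq, ← mul_assoc, e, mul_assoc] at hinv
        have : z = (b ^ i * b ^ i)⁻¹ := eq_inv_of_mul_eq_one_left hinv
        obtain ⟨m, hm⟩ := hp.out.odd_of_ne_two hp2
        have hzp : z ^ p = 1 := by
          rw [this, inv_pow, ← zpow_natCast (b ^ i * b ^ i) p, ← zpow_add, ← zpow_mul, mul_comm,
            zpow_mul, zpow_natCast, hbp, one_zpow, inv_one]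
        rw [hm, pow_succ, pow_mul, pow_two, hzz, one_pow, one_mul] at hzp
        exact hz1 hzp
    refine ⟨h, mem_centralizer_zpowers.1 h.2, ?_⟩
    rw [hi, zpow_eq_one hp2 hbp hzb hxb hx1 hinv, mul_one]
  · rintro ⟨h, hb, e⟩
    refine _root_.isConj_iff.2
      ⟨QuotientGroup.mk' _ ⟨h, mem_centralizer_zpowers.2 hb⟩, ?_⟩
    show QuotientGroup.mk' _ (⟨h, mem_centralizer_zpowers.2 hb⟩ : Subgroup.centralizer _) *
      QuotientGroup.mk' _ (zH hzb) * (QuotientGroup.mk' _
        (⟨h, mem_centralizer_zpowers.2 hb⟩ : Subgroup.centralizer _))⁻¹ = _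
    rw [← map_inv, ← map_mul, ← map_mul]
    exact congrArg QuotientGroup.mk (Subtype.ext e)

end Cfsg.Agent.Lib.MonsterType.OddQuot
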