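import Cfsg.Agent.Lib.MonsterType.Data
import Cfsg.Agent.Lib.ExtraTwo.Pair

/-!
Two orthogonal conjugates `z ≠ s = g z g⁻¹`, `s ∈ R`: `s` is of type 64, the two extraspecial groups
meet in order `2^13`, and the centraliser of `z` in the second induces the sign changes.
-/

set_option autoImplicit false

namespace Cfsg.Agent.Lib.MonsterType

open Cfsg
open Cfsg.Agent.Lib
open Cfsg.Agent.Lib.Leech
open Cfsg.Agent.Lib.LargeExtra

variable {G : Type*} [Group G] [Finite G] {z : G} {R : Subgroup G}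

/-- The pair is a setting in the sense of `ExtraTwo.Pair`. -/
theorem setting_of_conj (h : Good R z) {g : G} (hgR : g * z * g⁻¹ ∈ R) (hne : g * z * g⁻¹ ≠ z) :
    ExtraTwo.Pair.Setting R (R.map (MulAut.conj g).toMonoidHom) z (g * z * g⁻¹) := by
  have hS := good_map h g
  have htr : ∀ τ : G, τ * z * τ⁻¹ = g * z * g⁻¹ → ∀ q,
      q ∈ R.map (MulAut.conj g).toMonoidHom ↔ τ⁻¹ * q * τ ∈ R := by
    intro τ hτ q
    have hc : (τ⁻¹ * g) * z = z * (τ⁻¹ * g) := by
      calc (τ⁻¹ * g) * z = τ⁻¹ * (g * z * g⁻¹) * g := by group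
        _ = τ⁻¹ * (τ * z * τ⁻¹) * g := by rw [hτ]
        _ = z * (τ⁻¹ * g) := by group
    have hc' : (τ⁻¹ * g)⁻¹ * z = z * (τ⁻¹ * g)⁻¹ :=
      (Commute.inv_left (hc : Commute (τ⁻¹ * g) z)).eq
    constructor
    · rintro ⟨a, ha, rfl⟩
      have := h.norm _ hc a ha
      simpa [mul_assoc] using this
    · intro hq
      exact ⟨_, h.norm _ hc' _ hq, by simp [mul_assoc]⟩
  exact ⟨h, hS, hgR, LargeExtra.symm hS h htr hgR, hne, htr⟩

/-- The elements of `Co0` fixing a class that are induced by `C_{R'}(z)`. -/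
def induced {G : Type*} [Group G] {z : G} {R : Subgroup G} (D : MData z R) (R' : Subgroup G)
    (K : Subgroup Co0) : Subgroup Co0 where
  carrier := {g | g ∈ K ∧ ∃ b : ↥(Subgroup.centralizer ({z} : Set G)), (b : G) ∈ R' ∧
    D.π b = QuotientGroup.mk g}
  one_mem' := ⟨one_mem _, 1, one_mem _, map_one _⟩
  mul_mem' := by
    rintro a b ⟨ha, x, hx, ex⟩ ⟨hb, y, hy, ey⟩
    exact ⟨mul_mem ha hb, x * y, mul_mem hx hy, by rw [map_mul, ex, ey]; rfl⟩
  inv_mem' := by
    rintro a ⟨ha, x, hx, ex⟩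
    exact ⟨inv_mem ha, x⁻¹, inv_mem hx, by rw [map_inv, ex]; rfl⟩

section

variable {R' : Subgroup G} {s : G} (D : MData z R) (S : ExtraTwo.Pair.Setting R R' z s)
  (hcard' : Nat.card R' = 2 ^ 25)

include S hcard'

/-- The centraliser of `z` in `R'` has index 2. -/
theorem card_cent : Nat.card ↥(R' ⊓ Subgroup.centralizer ({z} : Set G)) = 2 ^ 24 := by
  have hs' : Subgroup.zpowers s ≤ R' := Subgroup.zpowers_le.2 S.hS.x_mem
  let T : Subgroup G := extend S.hS (Subgroup.zpowers s) hs' (Subgroup.mem_zpowers s) z S.hz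
  have hT : Nat.card T = 4 := by
    rw [card_extend _ _ hs' _ _ _ S.z_notMem, Nat.card_zpowers,
      orderOf_eq_prime (p := 2) (by rw [pow_two, S.hS.x_sq]) S.hS.x_ne]
  have hset : centIn R' T = ((R' ⊓ Subgroup.centralizer ({z} : Set G) : Subgroup G) : Set G) := by
    ext q
    simp only [centIn, Set.mem_ofPred_eq, SetLike.mem_coe, Subgroup.mem_inf]
    constructor
    · rintro ⟨hq, h⟩
      exact ⟨hq, Subgroup.mem_centralizer_singleton_iff.2 (h z (self_mem_extend _ _ hs' _ _ _))⟩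
    · rintro ⟨hq, h⟩
      refine ⟨hq, fun a ha => ?_⟩
      have hqs : ∀ b ∈ Subgroup.zpowers s, Commute q b := by
        intro b hb
        obtain ⟨i, rfl⟩ := Subgroup.mem_zpowers_iff.1 hb
        exact Commute.zpow_right (S.hS.le_cent q hq) i
      rcases ha with ha | ha
      · exact (hqs a ha).eq
      · have := Commute.mul_right (Subgroup.mem_centralizer_singleton_iff.1 h : Commute q z) (hqs _ ha)
        rwa [mul_inv_cancel_left] at this
  have hTle : T ≤ R' := extend_le _ _ hs' _ _ _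
  have hsT : s ∈ T := le_extend _ _ hs' _ _ _ (Subgroup.mem_zpowers s)
  have h1 := mul_centIn_le S.hS T hTle hsT
  have h2 := le_mul_centIn S.hS T hTle hsT
  rw [hT, hcard', hset, ← Nat.card_coe_set_eq] at h1 h2
  show Nat.card ↥((R' ⊓ Subgroup.centralizer ({z} : Set G) : Subgroup G) : Set G) = _
  omega

/-- Commutative subgroups of `R'` through `s` have order at most `2^13`. -/
theorem card_le_of_comm {A : Subgroup G} (hA : A ≤ R') (hsA : s ∈ A)
    (hc : ∀ a ∈ A, ∀ b ∈ A, a * b = b * a) : Nat.card A ≤ 2 ^ 13 := by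
  have h1 := mul_centIn_le S.hS A hA hsA
  have h2 : Nat.card A ≤ (centIn R' A).ncard := by
    rw [← Nat.card_coe_set_eq]
    exact Nat.card_mono (Set.toFinite _) fun a ha => ⟨hA ha, fun b hb => hc a ha b hb⟩
  rw [hcard'] at h1
  by_contra hlt
  push Not at hlt
  nlinarith

/-- The centraliser of `z` in `R'` does not lie in `R`. -/
theorem cent_not_le : ¬ R' ⊓ Subgroup.centralizer ({z} : Set G) ≤ R := by
  intro h
  have := card_le_of_comm S hcard' (A := R' ⊓ Subgroup.centralizer ({z} : Set G)) inf_le_left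
    ⟨S.hS.x_mem, Subgroup.mem_centralizer_singleton_iff.2 S.zs.eq.symm⟩
    fun a ha b hb => S.inf_comm_eq ⟨h ha, ha.1⟩ ⟨h hb, hb.1⟩
  rw [card_cent S hcard'] at this
  norm_num at this

omit hcard'

omit [Finite G] in
/-- Conjugation by an element moving `s` to itself normalises the induced subgroup. -/
theorem conj_mem_induced {K : Subgroup Co0} {k : Co0} (hk : k ∈ K)
    {c : ↥(Subgroup.centralizer ({z} : Set G))} (hc : D.π c = QuotientGroup.mk k)
    (hcs : (c : G) * s * (c : G)⁻¹ = s) {n : Co0} (hn : n ∈ induced D R' K) :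
    k * n * k⁻¹ ∈ induced D R' K := by
  obtain ⟨hnK, b, hb, eb⟩ := hn
  refine ⟨mul_mem (mul_mem hk hnK) (inv_mem hk), c * b * c⁻¹, ?_, ?_⟩
  · exact S.hS.norm _ (mul_inv_eq_iff_eq_mul.1 hcs) _ hb
  · rw [map_mul, map_mul, map_inv, hc, eb]; rfl

include hcard'

theorem isPGroup_induced (K : Subgroup Co0) : IsPGroup 2 (induced D R' K) := by
  rintro ⟨g, -, b, hb, e⟩
  refine ⟨26, Subtype.ext ?_⟩
  have hb' : b ^ 2 ^ 25 = 1 := by
    have h : (⟨(b : G), hb⟩ : R') ^ Nat.card R' = 1 := pow_card_eq_one'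
    rw [hcard'] at h
    exact Subtype.ext (by simpa using congrArg Subtype.val h)
  have h : (QuotientGroup.mk (g ^ 2 ^ 25) : Spor.Co1) = 1 := by
    rw [QuotientGroup.mk_pow, ← e, ← map_pow, hb', map_one]
  rw [QuotientGroup.eq_one_iff] at h
  show g ^ 2 ^ 26 = 1
  rw [pow_succ 2 25, pow_mul]
  rcases center_cases h with r | r <;> rw [r]
  · simp
  · rw [pow_two]; exact signs_sq negCo_mem_signs

omit hcard'

/-- An element of `C(z)` fixing `s` is induced by an automorphism preserving the class of `s`. -/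
theorem cong_of_fix {v : leechLattice} (hv : D.lift v s)
    {c : ↥(Subgroup.centralizer ({z} : Set G))} (hcs : (c : G) * s * (c : G)⁻¹ = s) {k : Co0}
    (hk : D.π c = QuotientGroup.mk k) : Cong (k • v) v := by
  have h := D.lift_conj c k hk hv
  rw [hcs] at h
  exact (D.lift_cong hv _).1 h

/-- An automorphism fixing the class of `s` comes from an element fixing `s`. -/
theorem exists_fix {v : leechLattice} (hv : D.lift v s) {k : Co0} (hk : Cong (k • v) v) :
    ∃ c : ↥(Subgroup.centralizer ({z} : Set G)), D.π c = QuotientGroup.mk k ∧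
      (c : G) * s * (c : G)⁻¹ = s := by
  obtain ⟨c, hc⟩ := D.π_surj (QuotientGroup.mk k)
  have h := (D.lift_cong (D.lift_conj c k hc hv) v).2 hk.symm
  rcases (D.lift_pair hv _).1 h with e | e
  · exact ⟨c, hc, e⟩
  · obtain ⟨q, hq, hqs⟩ := S.hQ.exists_move S.hs S.hS.x_ne S.ne
    have hqc : q ∈ Subgroup.centralizer ({z} : Set G) :=
      Subgroup.mem_centralizer_singleton_iff.2 (S.hQ.le_cent q hq)
    refine ⟨⟨q, hqc⟩ * c, by rw [map_mul, (D.π_eq_one ⟨q, hqc⟩).2 hq, one_mul, hc], ?_⟩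
    show q * c * s * (q * c)⁻¹ = s
    calc q * c * s * (q * c)⁻¹ = q * (c * s * (c : G)⁻¹) * q⁻¹ := by group
      _ = (q * s * q⁻¹) * (q * z * q⁻¹) := by rw [e]; group
      _ = s * (z * z) := by rw [hqs, S.hQ.le_cent q hq]; group
      _ = s := by rw [S.hQ.x_sq, mul_one]

include hcard'

/-- `s` is not of type 32. -/
theorem not_type32 {v : leechLattice} (hv32 : sqNorm (v : GolayPt → ℤ) = 32) (hv : D.lift v s) :
    False := by
  have hv0 : v ≠ 0 := fun e => by rw [e] at hv32; simp [sqNorm] at hv32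
  have hN : induced D R' (MulAction.stabilizer Co0 v) = ⊥ := by
    refine stab32_no_normal_two hv32 (fun n hn => hn.1) (isPGroup_induced D S hcard' _) fun k hk n hn => ?_
    obtain ⟨c, hc, hcs⟩ := exists_fix D S hv (by rw [hk]; exact cong_refl v)
    exact conj_mem_induced D S hk hc hcs hn
  refine cent_not_le S hcard' fun b hb => ?_
  obtain ⟨hbR, hbz⟩ := hb
  let c : ↥(Subgroup.centralizer ({z} : Set G)) := ⟨b, hbz⟩
  obtain ⟨k, hk⟩ := QuotientGroup.mk_surjective (D.π c)
  have hbs : (c : G) * s * (c : G)⁻¹ = s := conj_eq_iff_comm.2 (S.hS.le_cent b hbR)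
  have hcong := cong_of_fix D S hv hbs hk.symm
  have hsame := D.cong_norm hcong (by rw [sqNorm_smul, hv32]; norm_num) (by rw [hv32]; norm_num) hv0
  have key : ∀ k' : Co0, D.π c = QuotientGroup.mk k' → k' • v = v → b ∈ R := by
    intro k' he hfix
    have hmem : k' ∈ induced D R' (MulAction.stabilizer Co0 v) := ⟨hfix, c, hbR, he⟩
    rw [hN, Subgroup.mem_bot] at hmem
    exact (D.π_eq_one c).1 (by rw [he, hmem]; rfl)
  rcases hsame.2 (by rw [sqNorm_smul, hv32]; norm_num) with e | e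
  · exact key k hk.symm e.symm
  · refine key (negCo * k) ?_ (by rw [mul_smul, negCo_smul, ← e])
    rw [← hk, QuotientGroup.mk_mul, (QuotientGroup.eq_one_iff negCo).2 negCo_mem_center, one_mul]

/-- `s` is of type 64. -/
theorem mem_type64 : s ∈ D.typeSet 64 := by
  rcases D.classify S.hs with (h | h) | h | h | h
  · exact absurd h S.hS.x_ne
  · exact absurd h S.ne
  · obtain ⟨v, hv, hl⟩ := h
    exact (not_type32 D S hcard' hv hl).elim
  · obtain ⟨v, hv, hl⟩ := h
    have := (D.sq_eq_one_iff hl).1 S.hS.x_sq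
    rw [hv] at this
    norm_num at this
  · exact h

/-- The image of `C_{R'}(z)` in `Co1` lies among the sign changes. -/
theorem map_cent_le (hv : D.lift (pt8 none) s)
    {b : ↥(Subgroup.centralizer ({z} : Set G))} (hb : (b : G) ∈ R') :
    D.π b ∈ signs.map (QuotientGroup.mk' (Subgroup.center Co0)) := by
  have hle : induced D R' crossStab ≤ signs := by
    refine le_signs_of_normal (fun n hn => hn.1) (isPGroup_induced D S hcard' _) fun k hk n hn => ?_
    obtain ⟨c, hc, hcs⟩ := exists_fix D S hv hk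
    exact conj_mem_induced D S hk hc hcs hn
  obtain ⟨k, hk⟩ := QuotientGroup.mk_surjective (D.π b)
  have hbs : (b : G) * s * (b : G)⁻¹ = s := conj_eq_iff_comm.2 (S.hS.le_cent _ hb)
  exact ⟨k, hle ⟨cong_of_fix D S hv hbs hk.symm, b, hb, hk.symm⟩, hk⟩

omit S hcard' in
omit [Group G] [Finite G] in
theorem card_map_signs :
    Nat.card ↥(signs.map (QuotientGroup.mk' (Subgroup.center Co0))) = 2 ^ 11 := by
  let f : signs →* Spor.Co1 := (QuotientGroup.mk' (Subgroup.center Co0)).comp signs.subtype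
  have hle : Subgroup.center Co0 ≤ signs := by
    intro x hx
    rcases center_cases hx with r | r <;> rw [r]
    exacts [one_mem _, negCo_mem_signs]
  have hr : f.range = signs.map (QuotientGroup.mk' (Subgroup.center Co0)) := by
    rw [MonoidHom.range_comp, Subgroup.range_subtype]
  have hk : f.ker = (Subgroup.center Co0).subgroupOf signs := by
    ext x
    simp [Subgroup.mem_subgroupOf, f]
  have h := f.ker.card_mul_index
  rw [Subgroup.index_ker, card_signs, hr, hk,
    Nat.card_congr (Subgroup.subgroupOfEquivOfLe hle).toEquiv, card_center] at h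
  refine (Nat.eq_of_mul_eq_mul_left two_pos (h.trans ?_))
  norm_num

/-- The restriction of `π` to `C_{R'}(z)`. -/
theorem inf_card (hv : D.lift (pt8 none) s) :
    Nat.card ↥(R ⊓ R') = 2 ^ 13 ∧
      ((R' ⊓ Subgroup.centralizer ({z} : Set G)).subgroupOf
        (Subgroup.centralizer ({z} : Set G))).map D.π =
        signs.map (QuotientGroup.mk' (Subgroup.center Co0)) := by
  set B := R' ⊓ Subgroup.centralizer ({z} : Set G) with hB
  set B' := B.subgroupOf (Subgroup.centralizer ({z} : Set G)) with hB'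
  have hle : B'.map D.π ≤ signs.map (QuotientGroup.mk' (Subgroup.center Co0)) := by
    rintro _ ⟨b, hb, rfl⟩
    exact map_cent_le D S hcard' hv hb.1
  have hI : Nat.card ↥(R ⊓ R') ≤ 2 ^ 13 :=
    card_le_of_comm S hcard' inf_le_right ⟨S.hs, S.hS.x_mem⟩ fun a ha b hb => S.inf_comm_eq ha hb
  let f : B' →* Spor.Co1 := D.π.comp B'.subtype
  have hBR : R ⊓ R' ≤ B := fun x hx =>
    ⟨hx.2, Subgroup.mem_centralizer_singleton_iff.2 (S.hQ.le_cent x hx.1)⟩
  have hk : Nat.card f.ker = Nat.card ↥(R ⊓ R') := by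
    refine Nat.card_congr
      { toFun := fun x => ⟨x.1.1.1, (D.π_eq_one x.1.1).1 x.2, x.1.2.1⟩
        invFun := fun x => ⟨⟨⟨x.1, (hBR x.2).2⟩, hBR x.2⟩, (D.π_eq_one _).2 x.2.1⟩
        left_inv := fun x => rfl
        right_inv := fun x => rfl }
  have hr : f.range = B'.map D.π := by rw [MonoidHom.range_comp, Subgroup.range_subtype]
  have h := f.ker.card_mul_index
  rw [Subgroup.index_ker, hr, hk,
    Nat.card_congr (Subgroup.subgroupOfEquivOfLe (H := B) inf_le_right).toEquiv,
    card_cent S hcard'] at h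
  haveI := finite_co0
  have h11 : Nat.card ↥(B'.map D.π) ≤ 2 ^ 11 := by
    rw [← card_map_signs]
    exact Subgroup.card_le_of_le hle
  have hI' : Nat.card ↥(R ⊓ R') = 2 ^ 13 := by
    refine le_antisymm hI ?_
    by_contra hlt
    push Not at hlt
    have := Nat.mul_lt_mul_of_lt_of_le hlt h11 (by norm_num)
    rw [h] at this
    norm_num at this
  refine ⟨hI', Subgroup.eq_of_le_of_card_ge hle ?_⟩
  rw [hI'] at h
  rw [card_map_signs]
  omega

end

/-- The coordinates can be chosen so that `s` has the class of `8 e∞`. -/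
theorem exists_recoord {z : G} {R : Subgroup G} (D : MData z R) {s : G} (hs : s ∈ D.typeSet 64) :
    ∃ g₀ : Co0, (D.recoord g₀).lift (pt8 none) s := by
  obtain ⟨v, hv, hl⟩ := hs
  obtain ⟨g, hg⟩ := exists_smul64 v (pt8 none) hv (sqNorm_vec8 none)
  exact ⟨g, show D.lift (g⁻¹ • pt8 none) s by rwa [← hg, inv_smul_smul]⟩

/-- Conjugates of `z` in `R` other than `z` are exactly the elements of type 64, provided there is one. -/
theorem isConj_iff_type64 {z : G} {R : Subgroup G} (D : MData z R)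
    (hne : ∃ g : G, g * z * g⁻¹ ∈ R ∧ g * z * g⁻¹ ≠ z) {x : G} (hx : x ∈ R) :
    (IsConj z x ∧ x ≠ z) ↔ x ∈ D.typeSet 64 := by
  have key : ∀ g : G, g * z * g⁻¹ ∈ R → g * z * g⁻¹ ≠ z → g * z * g⁻¹ ∈ D.typeSet 64 :=
    fun g hgR hgz => mem_type64 D (setting_of_conj D.good hgR hgz) (D.transport g).card
  constructor
  · rintro ⟨hc, hxz⟩
    obtain ⟨g, rfl⟩ := _root_.isConj_iff.1 hc
    exact key g hx hxz
  · intro h
    obtain ⟨g, hgR, hgz⟩ := hne
    obtain ⟨c, -, hc⟩ := D.type_transitive (Or.inr (Or.inr rfl)) (key g hgR hgz) h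
    refine ⟨_root_.isConj_iff.2 ⟨c * g, ?_⟩, (D.type_ne (by norm_num) le_rfl h).2⟩
    rw [← hc]; group

end Cfsg.Agent.Lib.MonsterType
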