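import Cfsg.Agent.Lib.MonsterType.Cross
import Cfsg.Prelude.Def_Spor_Conway

/-!
The stabiliser in `Co0` of a vector of squared length 32 has no nontrivial normal 2-subgroup: it has
elements of orders 23 and 11 centralising no involution.
-/

set_option autoImplicit false

namespace Cfsg.Agent.Lib.MonsterType

open Cfsg
open Cfsg.Agent.Lib
open Cfsg.Agent.Lib.Leech

theorem sum_golayPt (f : GolayPt → ℤ) : ∑ i, f i = f none + ∑ x : ZMod 23, f (some x) :=
  Fintype.sum_option f

theorem monoCo_one : monoCo 1 (one_mem M24) 0 (zero_mem _) = (1 : Co0) := co0_ext fun v => by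
  rw [monoCo_smul]; funext k; simp [signedPerm, support₂]; rfl

theorem monoCo_zero_pow (σ : Equiv.Perm GolayPt) (hσ : σ ∈ M24) (n : ℕ) :
    monoCo σ hσ 0 (zero_mem _) ^ n = monoCo (σ ^ n) (pow_mem hσ n) 0 (zero_mem _) := by
  induction n with
  | zero => rw [pow_zero]; exact monoCo_one.symm
  | succ n ih =>
    rw [pow_succ, ih, monoCo_mul]
    congr 1 <;> first
      | exact (pow_succ σ n).symm
      | (funext i; simp)

/-- For commuting monomial elements, one with trivial signs. -/
theorem commute_mono {σ τ : Equiv.Perm GolayPt} {hσ : σ ∈ M24} {hτ : τ ∈ M24}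
    {w : GolayPt → ZMod 2} {hw : w ∈ golayCode}
    (h : monoCo σ hσ w hw * monoCo τ hτ 0 (zero_mem _) =
      monoCo τ hτ 0 (zero_mem _) * monoCo σ hσ w hw) :
    σ * τ = τ * σ ∧ ∀ i, w (τ i) = w i := by
  rw [monoCo_mul, monoCo_mul] at h
  obtain ⟨h1, h2⟩ := monoCo_injective h
  refine ⟨h1, fun i => ?_⟩
  have := congrFun h2 (τ i)
  simpa using this

/-! ### An element of order 23 -/

/-- The translation as an automorphism of the lattice. -/
def tau : Co0 := monoCo Golay.translate Golay.translate_mem_M24 0 (zero_mem _)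

theorem tau_smul_apply (v : leechLattice) (x : ZMod 23) :
    ((tau • v : leechLattice) : GolayPt → ℤ) (some (x + 1)) = (v : GolayPt → ℤ) (some x) := by
  rw [tau, monoCo_smul]
  have e : Golay.translate.symm (some (x + 1)) = some x := by
    rw [Equiv.symm_apply_eq]; rfl
  simp [signedPerm, support₂, e]

theorem const_of_tau_fix {v : leechLattice} (h : tau • v = v) (x : ZMod 23) :
    (v : GolayPt → ℤ) (some x) = (v : GolayPt → ℤ) (some 0) := by
  have hn : ∀ n : ℕ, (v : GolayPt → ℤ) (some (n : ZMod 23)) = (v : GolayPt → ℤ) (some 0) := by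
    intro n
    induction n with
    | zero => simp
    | succ n ih =>
      have := tau_smul_apply v (n : ZMod 23)
      rw [h] at this
      rw [Nat.cast_succ, this, ih]
  have := hn x.val
  rwa [ZMod.natCast_zmod_val] at this

/-- `(-3, 1^23)` as a lattice vector. -/
def u23 : leechLattice := ⟨vec31 none, vec31_mem none⟩

theorem tau_checks : signedPerm Golay.translate (support₂ (0 : GolayPt → ZMod 2)) (vec31 none)
      = vec31 none ∧
    signedPerm Golay.translate (support₂ (0 : GolayPt → ZMod 2)) Spor.vecV = Spor.vecV ∧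
    dotInt (vec31 none) Spor.vecV = -8 ∧ sqNorm Spor.vecV = 48 ∧ sqNorm (vec31 none) = 32 ∧
    -(vec31 none + Spor.vecV) = vec8 none ∧ Golay.translate ^ 23 = 1 ∧
    Golay.translate none = none := by
  decide +kernel

theorem tau_u23 : tau • u23 = u23 := Subtype.ext tau_checks.1

theorem sqNorm_u23 : sqNorm (u23 : GolayPt → ℤ) = 32 := tau_checks.2.2.2.2.1

theorem tau_pow : tau ^ 23 = 1 := by
  rw [tau, monoCo_zero_pow]
  simp only [tau_checks.2.2.2.2.2.2.1]
  exact monoCo_one

theorem weight_all_but_inf : (support₂ fun p : GolayPt => if p = none then (0 : ZMod 2) else 1).card = 23 := by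
  decide +kernel

/-- The centraliser of the translation in the stabiliser of `(-3, 1^23)`. -/
theorem pow_eq_one_of_commute_tau {g : Co0} (hu : g • u23 = u23) (hc : g * tau = tau * g) :
    g ^ 23 = 1 := by
  obtain ⟨-, hv0, hdot, hn48, -, h8, -, -⟩ := tau_checks
  set v0 : leechLattice := Spor.leechV with hv0def
  have hfix : tau • v0 = v0 := Subtype.ext hv0
  have hgfix : tau • (g • v0) = g • v0 := by rw [← mul_smul, ← hc, mul_smul, hfix]
  -- the image of `v0` is `v0`
  set a := ((g • v0 : leechLattice) : GolayPt → ℤ) none with ha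
  set b := ((g • v0 : leechLattice) : GolayPt → ℤ) (some 0) with hb
  have hconst := const_of_tau_fix hgfix
  have hN : a * a + 23 * (b * b) = 48 := by
    have h := sqNorm_smul g v0
    rw [show ((v0 : leechLattice) : GolayPt → ℤ) = Spor.vecV from rfl, hn48, sqNorm, sum_golayPt,
      Finset.sum_congr rfl (fun x _ => by rw [hconst x]), Finset.sum_const, Finset.card_univ,
      ZMod.card, nsmul_eq_mul] at h
    rw [← h, ha, hb]
    push_cast
    ring
  have hD : -3 * a + 23 * b = -8 := by
    have h := dotInt_smul g u23 v0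
    rw [hu, show ((v0 : leechLattice) : GolayPt → ℤ) = Spor.vecV from rfl,
      show ((u23 : leechLattice) : GolayPt → ℤ) = vec31 none from rfl, hdot, dotInt, sum_golayPt,
      Finset.sum_congr rfl (fun x _ => by
        rw [hconst x, show vec31 none (some x) = 1 by simp [vec31], one_mul]),
      Finset.sum_const, Finset.card_univ, ZMod.card, nsmul_eq_mul] at h
    rw [← h]
    simp [vec31, ha, hb]
  have hb1 : -1 ≤ b ∧ b ≤ 1 := by constructor <;> nlinarith [mul_self_nonneg a]
  have hab : a = -5 ∧ b = -1 := by
    obtain ⟨l, r⟩ := hb1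
    interval_cases b <;> omega
  have hgv : g • v0 = v0 := by
    refine Subtype.ext (funext fun p => ?_)
    match p with
    | none => exact hab.1
    | some x => rw [hconst x, ← hb, hab.2]; rfl
  have hp : g • pt8 none = pt8 none := by
    have e : pt8 none = -(u23 + v0) := Subtype.ext h8.symm
    rw [e, smul_neg', smul_add', hu, hgv]
  obtain ⟨σ, hσ, w, hw, rfl, hσ0, hw0⟩ := exists_mono_of_fix hp
  obtain ⟨hcomm, hwinv⟩ := commute_mono hc
  have hwc : ∀ x : ZMod 23, w (some x) = w (some 0) := by
    have hn : ∀ n : ℕ, w (some (n : ZMod 23)) = w (some 0) := by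
      intro n
      induction n with
      | zero => simp
      | succ n ih => rw [Nat.cast_succ, ← ih]; exact hwinv (some (n : ZMod 23))
    intro x
    have := hn x.val
    rwa [ZMod.natCast_zmod_val] at this
  obtain rfl : w = 0 := by
    rcases zmod2_cases (w (some 0)) with e | e
    · funext p
      match p with
      | none => exact hw0
      | some x => rw [hwc x, e]; rfl
    · exfalso
      have hw' : w = fun p => if p = none then 0 else 1 := by
        funext p
        match p with
        | none => exact hw0
        | some x => rw [hwc x, e]; rfl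
      have h := code_weight_dvd hw
      rw [hw', weight_all_but_inf] at h
      norm_num at h
  have hσk : σ = Golay.translate ^ (((σ (some 0)).getD 0).val) := by
    obtain ⟨k, hk⟩ : ∃ k, σ (some 0) = some k := by
      match h : σ (some 0) with
      | none => exact absurd (σ.injective (h.trans hσ0.symm)) (by simp)
      | some k => exact ⟨k, rfl⟩
    have htr : ∀ (n : ℕ) (x : ZMod 23), (Golay.translate ^ n) (some x) = some (x + n) := by
      intro n
      induction n with
      | zero => simp
      | succ n ih =>
        intro x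
        rw [pow_succ', Equiv.Perm.mul_apply, ih, Nat.cast_succ, ← add_assoc]
        rfl
    refine Equiv.ext fun p => ?_
    match p with
    | none =>
      have : ∀ n : ℕ, (Golay.translate ^ n) none = none := by
        intro n
        induction n with
        | zero => simp
        | succ n ih => rw [pow_succ', Equiv.Perm.mul_apply, ih]; rfl
      rw [hσ0, this]
    | some x =>
      have hn : ∀ n : ℕ, σ (some (n : ZMod 23)) = some (k + n) := by
        intro n
        induction n with
        | zero => simp [hk]
        | succ n ih =>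
          have := Equiv.congr_fun hcomm (some (n : ZMod 23))
          rw [Equiv.Perm.mul_apply, Equiv.Perm.mul_apply, ih] at this
          rw [Nat.cast_succ, ← add_assoc]
          exact this
      rw [hk, Option.getD_some, htr, ZMod.natCast_zmod_val]
      have := hn x.val
      rw [ZMod.natCast_zmod_val] at this
      rw [this, add_comm]
  rw [monoCo_zero_pow]
  have : σ ^ 23 = 1 := by
    rw [hσk, ← pow_mul, mul_comm, pow_mul, tau_checks.2.2.2.2.2.2.1, one_pow]
  simp only [this]
  exact monoCo_one

/-! ### An element of order 11 -/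

/-- The permutation `x ↦ 2 x`. -/
def dbl : Equiv.Perm GolayPt := Equiv.optionCongr (Units.mulLeft (ZMod.unitOfCoprime 2 (by norm_num) : (ZMod 23)ˣ))

theorem dbl_mem : dbl ∈ M24 :=
  Golay.squareMul_mem_M24 _ ⟨ZMod.unitOfCoprime 5 (by norm_num), Units.ext (by decide +kernel)⟩

/-- The doubling map as an automorphism of the lattice. -/
def theta : Co0 := monoCo dbl dbl_mem 0 (zero_mem _)

theorem dbl_checks : signedPerm dbl (support₂ (0 : GolayPt → ZMod 2)) repA = repA ∧
    dbl ^ 11 = 1 ∧ sqNorm repA = 32 ∧ dotInt repA (vec8 none) = 32 ∧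
    signedPerm dbl (support₂ (0 : GolayPt → ZMod 2)) (vec8 none) = vec8 none ∧
    dbl none = none ∧ dbl (some 0) = some 0 := by
  decide +kernel

theorem theta_baseU : theta • baseU = baseU := Subtype.ext dbl_checks.1

theorem theta_pow : theta ^ 11 = 1 := by
  rw [theta, monoCo_zero_pow]
  simp only [dbl_checks.2.1]
  exact monoCo_one

theorem dbl_some (x : ZMod 23) : dbl (some x) = some (2 * x) := rfl

theorem dbl_pow_some (k : ℕ) (x : ZMod 23) : (dbl ^ k) (some x) = some (2 ^ k * x) := by
  induction k with
  | zero => simp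
  | succ k ih => rw [pow_succ', Equiv.Perm.mul_apply, ih, dbl_some, pow_succ', mul_assoc]

theorem sq_cases23 : ∀ x : ZMod 23, x ≠ 0 → ∃ k : Fin 11, x = 2 ^ k.val ∨ x = 2 ^ k.val * (-1) := by
  decide +kernel

/-- Invariants of the doubling map are constant on squares and on non-squares. -/
theorem orbit_const {α : Type*} (f : GolayPt → α) (h : ∀ i, f (dbl i) = f i) (k : ℕ) (x : ZMod 23) :
    f (some (2 ^ k * x)) = f (some x) := by
  rw [← dbl_pow_some]
  induction k with
  | zero => simp
  | succ k ih => rw [pow_succ', Equiv.Perm.mul_apply, h, ih]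

/-- Zero. -/
def i0 (x : ZMod 23) : ℤ := if x = 0 then 1 else 0
/-- Squares. -/
def iS (x : ZMod 23) : ℤ := if x ≠ 0 ∧ x ^ 11 = 1 then 1 else 0
/-- Non-squares. -/
def iN (x : ZMod 23) : ℤ := if x ≠ 0 ∧ x ^ 11 ≠ 1 then 1 else 0

theorem ind_checks : ∑ x, i0 x = 1 ∧ ∑ x, iS x = 11 ∧ ∑ x, iN x = 11 ∧
    (∀ k : Fin 11, iS (2 ^ k.val) = 1 ∧ iN (2 ^ k.val) = 0 ∧ i0 (2 ^ k.val) = 0 ∧
      iS (2 ^ k.val * (-1)) = 0 ∧ iN (2 ^ k.val * (-1)) = 1 ∧ i0 (2 ^ k.val * (-1)) = 0) ∧
    i0 0 = 1 ∧ iS 0 = 0 ∧ iN 0 = 0 := by
  decide +kernel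

theorem sum_invariant (f : GolayPt → ℤ) (h : ∀ i, f (dbl i) = f i) :
    ∑ i, f i = f none + f (some 0) + 11 * f (some 1) + 11 * f (some (-1)) := by
  obtain ⟨e0, eS, eN, hk, z0, zS, zN⟩ := ind_checks
  have e : ∀ x : ZMod 23, f (some x) =
      f (some 0) * i0 x + f (some 1) * iS x + f (some (-1)) * iN x := by
    intro x
    by_cases hx : x = 0
    · rw [hx, z0, zS, zN]; ring
    · obtain ⟨k, r | r⟩ := sq_cases23 x hx
      · obtain ⟨a, b, c, -, -, -⟩ := hk k
        have := orbit_const f h k.val 1
        rw [mul_one] at this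
        rw [r, this, a, b, c]; ring
      · obtain ⟨-, -, -, a, b, c⟩ := hk k
        rw [r, orbit_const f h k.val (-1), a, b, c]; ring
  rw [sum_golayPt, Finset.sum_congr rfl (fun x _ => e x), Finset.sum_add_distrib,
    Finset.sum_add_distrib, ← Finset.mul_sum, ← Finset.mul_sum, ← Finset.mul_sum, e0, eS, eN]
  ring

/-- A word determined by its values on the two orbits. -/
def orbWord (c d : ZMod 2) : GolayPt → ZMod 2
  | none => 0
  | some x => if x = 0 then 0 else if x ^ 11 = 1 then c else d

theorem orbWord_checks : ∀ c d : ZMod 2,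
    4 ∣ (support₂ (orbWord c d)).card → c = 0 ∧ d = 0 := by
  decide +kernel

theorem pow11_checks : ∀ k : Fin 11, ((2 : ZMod 23) ^ k.val) ≠ 0 ∧ ((2 : ZMod 23) ^ k.val) ^ 11 = 1 ∧
    ((2 : ZMod 23) ^ k.val * (-1)) ≠ 0 ∧ ((2 : ZMod 23) ^ k.val * (-1)) ^ 11 ≠ 1 := by
  decide +kernel

/-- A map commuting with doubling. -/
def linFun (b : Bool) (s a : ZMod 23) : GolayPt → GolayPt
  | none => if b then some 0 else none
  | some x => if x = 0 then (if b then none else some 0)
      else if x ^ 11 = 1 then some (x * s) else some (x * a)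

theorem linFun_check : ∀ (b : Bool) (s a : ZMod 23), s ≠ 0 → a ≠ 0 →
    (∀ p, linFun b s a (linFun b s a p) = p) →
    (∀ t : ZMod 23, Golay.isCodeMask (Golay.maskOf (support₂ fun p => qrWord t (linFun b s a p))) = true) →
    ∀ p, linFun b s a p = p := by
  decide +kernel

/-- No involution in the stabiliser of `(4, 4, 0^22)` commutes with the doubling map. -/
theorem eq_one_of_commute_theta {g : Co0} (hu : g • baseU = baseU) (hc : g * theta = theta * g)
    (hg : g * g = 1) : g = 1 := by
  obtain ⟨-, -, -, hdot8, hfix8, hd0, hd1⟩ := dbl_checks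
  have hfix : theta • pt8 none = pt8 none := Subtype.ext hfix8
  have hgfix : theta • (g • pt8 none) = g • pt8 none := by rw [← mul_smul, ← hc, mul_smul, hfix]
  set v := ((g • pt8 none : leechLattice) : GolayPt → ℤ) with hv
  have hinv : ∀ i, v (dbl i) = v i := by
    intro i
    have h := congrFun (congrArg Subtype.val hgfix) (dbl i)
    rw [theta, monoCo_smul] at h
    simp [signedPerm, support₂] at h
    exact h.symm
  have hN : v none * v none + v (some 0) * v (some 0) + 11 * (v (some 1) * v (some 1))
      + 11 * (v (some (-1)) * v (some (-1))) = 64 := by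
    have h := sqNorm_smul g (pt8 none)
    rw [show ((pt8 none : leechLattice) : GolayPt → ℤ) = vec8 none from rfl, sqNorm_vec8, sqNorm,
      ← hv, sum_invariant (fun i => v i ^ 2) (fun i => by show v (dbl i) ^ 2 = v i ^ 2; rw [hinv])] at h
    rw [← h]; ring
  have hD : v none + v (some 0) = 8 := by
    have h := dotInt_smul g baseU (pt8 none)
    rw [hu, show ((pt8 none : leechLattice) : GolayPt → ℤ) = vec8 none from rfl,
      show ((baseU : leechLattice) : GolayPt → ℤ) = repA from rfl, hdot8, dotInt_repA, ← hv] at h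
    omega
  have ha0 : 0 ≤ v none ∧ v none ≤ 8 := by
    constructor <;> nlinarith [mul_self_nonneg (v (some 1)), mul_self_nonneg (v (some (-1)))]
  have hzero : (v none = 8 ∨ v none = 0) ∧ v (some 1) * v (some 1) + v (some (-1)) * v (some (-1)) = 0 := by
    have hb : v (some 0) = 8 - v none := by omega
    rw [hb] at hN
    obtain ⟨l, r⟩ := ha0
    generalize v none = A at *
    generalize v (some 1) * v (some 1) = S1 at *
    generalize v (some (-1)) * v (some (-1)) = S2 at *
    interval_cases A <;> omega
  have hcross : g ∈ crossStab := by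
    rw [mem_crossStab_iff]
    have z1 : v (some 1) = 0 := by
      nlinarith [hzero.2, mul_self_nonneg (v (some (-1))), mul_self_nonneg (v (some 1))]
    have z2 : v (some (-1)) = 0 := by
      nlinarith [hzero.2, mul_self_nonneg (v (some (-1))), mul_self_nonneg (v (some 1))]
    have hz : ∀ x : ZMod 23, x ≠ 0 → v (some x) = 0 := by
      intro x hx
      obtain ⟨k, r | r⟩ := sq_cases23 x hx
      · have := orbit_const v hinv k.val 1
        rw [mul_one] at this
        rw [r, this, z1]
      · rw [r, orbit_const v hinv k.val (-1), z2]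
    rcases hzero.1 with h | h
    · have e : g • pt8 none = pt8 none := Subtype.ext (funext fun p => by
        show v p = vec8 none p
        match p with
        | none => simpa [vec8] using h
        | some x =>
          by_cases hx : x = 0
          · simp [vec8, hx]; omega
          · simp [vec8, hz x hx])
      rw [e]; exact cong_refl _
    · have e : g • pt8 none = pt8 (some 0) := Subtype.ext (funext fun p => by
        show v p = vec8 (some 0) p
        match p with
        | none => simpa [vec8] using h
        | some x =>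
          by_cases hx : x = 0
          · simp [vec8, hx]; omega
          · simp [vec8, hx, hz x hx])
      rw [e]; exact cong_pt8 _
  obtain ⟨σ, hσ, w, hw, rfl⟩ := exists_mono_of_mem_crossStab hcross
  obtain ⟨hcomm, hwinv⟩ := commute_mono hc
  -- the two fixed points
  have hrep : ∀ i, signedPerm σ (support₂ w) repA i = repA i := congrFun (congrArg Subtype.val hu)
  have hw01 : w none = 0 ∧ w (some 0) = 0 := by
    have hnn : ∀ j, 0 ≤ repA j := by decide +kernel
    have hr : repA none = 4 ∧ repA (some 0) = 4 := by decide +kernel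
    constructor
    · rcases zmod2_cases (w none) with e | e
      · exact e
      · have := hrep none
        simp [signedPerm, support₂, e, hr.1] at this
        linarith [hnn (σ.symm none)]
    · rcases zmod2_cases (w (some 0)) with e | e
      · exact e
      · have := hrep (some 0)
        simp [signedPerm, support₂, e, hr.2] at this
        linarith [hnn (σ.symm (some 0))]
  have hworb : w = orbWord (w (some 1)) (w (some (-1))) := by
    funext p
    match p with
    | none => exact hw01.1
    | some x =>
      by_cases hx : x = 0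
      · simp [orbWord, hx, hw01.2]
      · obtain ⟨k, r | r⟩ := sq_cases23 x hx
        · obtain ⟨a, b, -, -⟩ := pow11_checks k
          have := orbit_const w hwinv k.val 1
          rw [mul_one] at this
          rw [r, this]; simp [orbWord, a, b]
        · obtain ⟨-, -, a, b⟩ := pow11_checks k
          rw [r, orbit_const w hwinv k.val (-1)]; simp only [orbWord]; rw [if_neg a, if_neg b]
  obtain rfl : w = 0 := by
    have h := code_weight_dvd hw
    rw [hworb] at h
    obtain ⟨h1, h2⟩ := orbWord_checks _ _ h
    rw [hworb, h1, h2]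
    funext p
    match p with
    | none => rfl
    | some x => simp [orbWord]
  -- the permutation
  have hpair : ∀ p, (p = none ∨ p = some 0) → (σ p = none ∨ σ p = some 0) := by
    intro p hp
    have hsupp : ∀ j, repA j ≠ 0 ↔ (j = none ∨ j = some 0) := by decide +kernel
    rw [← hsupp] at hp ⊢
    have := hrep (σ p)
    simp [signedPerm, support₂] at this
    rwa [← this]
  have hlin : ∃ b s a, s ≠ 0 ∧ a ≠ 0 ∧ ∀ p, σ p = linFun b s a p := by
    have hnot : ∀ x : ZMod 23, x ≠ 0 → ∃ y, y ≠ 0 ∧ σ (some x) = some y := by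
      intro x hx
      have hn : ¬(σ (some x) = none ∨ σ (some x) = some 0) := by
        intro hh
        rcases hpair none (Or.inl rfl) with a | a <;>
          rcases hpair (some 0) (Or.inr rfl) with b | b
        · exact absurd (σ.injective (a.trans b.symm)) (by simp)
        · rcases hh with c | c
          · exact absurd (σ.injective (c.trans a.symm)) (by simp)
          · exact hx (Option.some.inj (σ.injective (c.trans b.symm)))
        · rcases hh with c | c
          · exact hx (Option.some.inj (σ.injective (c.trans b.symm)))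
          · exact absurd (σ.injective (c.trans a.symm)) (by simp)
        · exact absurd (σ.injective (a.trans b.symm)) (by simp)
      match h : σ (some x) with
      | none => exact absurd (Or.inl h) hn
      | some y => exact ⟨y, fun e => hn (Or.inr (by rw [h, e])), rfl⟩
    obtain ⟨s, hs, hs'⟩ := hnot 1 (by decide)
    obtain ⟨a, ha, ha'⟩ := hnot (-1) (by decide)
    refine ⟨decide (σ none = some 0), s, -a, hs, neg_ne_zero.2 ha, fun p => ?_⟩
    have hpow : ∀ (k : ℕ) (x : ZMod 23) (y : ZMod 23), σ (some x) = some y →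
        σ (some (2 ^ k * x)) = some (2 ^ k * y) := by
      intro k x y h
      have hck : Commute σ (dbl ^ k) := Commute.pow_right hcomm k
      have := Equiv.congr_fun hck.eq (some x)
      rw [Equiv.Perm.mul_apply, Equiv.Perm.mul_apply, h, dbl_pow_some, dbl_pow_some] at this
      exact this
    match p with
    | none =>
      rcases hpair none (Or.inl rfl) with r | r <;> simp [linFun, r]
    | some x =>
      by_cases hx : x = 0
      · subst hx
        rcases hpair none (Or.inl rfl) with r | r <;> rcases hpair (some 0) (Or.inr rfl) with r' | r'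
        · exact absurd (σ.injective (r.trans r'.symm)) (by simp)
        · simp [linFun, r, r']
        · simp [linFun, r, r']
        · exact absurd (σ.injective (r.trans r'.symm)) (by simp)
      · obtain ⟨k, r | r⟩ := sq_cases23 x hx
        · obtain ⟨p1, p2, -, -⟩ := pow11_checks k
          have := hpow k.val 1 s hs'
          rw [mul_one] at this
          rw [r, this]; simp [linFun, p1, p2]
        · obtain ⟨-, -, p1, p2⟩ := pow11_checks k
          rw [r, hpow k.val (-1) a ha']; simp only [linFun]; rw [if_neg p1, if_neg p2]; congr 1; ring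
  obtain ⟨b, s, a, hs, ha, hl⟩ := hlin
  have hσ2 : ∀ p, σ (σ p) = p := by
    intro p
    rw [monoCo_mul] at hg
    exact Equiv.congr_fun (monoCo_injective (hσ' := one_mem M24) (hw₂ := zero_mem _)
      (hg.trans monoCo_one.symm)).1 p
  have hid := linFun_check b s a hs ha (fun p => by rw [← hl, ← hl]; exact hσ2 p) (fun t => by
    have h : qrWord t ∈ golayCode := Submodule.subset_span (Set.mem_union_left _ ⟨t, rfl⟩)
    have := Golay.isCodeSet_iff.1 (Golay.mem_golayCode_iff.1 ((Leech.mem_M24_iff.1 hσ _).1 h))
    simpa only [hl] using this)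
  obtain rfl : σ = 1 := Equiv.ext fun p => by rw [hl, hid]; rfl
  exact monoCo_one

/-! ### The conclusion -/

/-- A 2-group normalised by an element of prime order `p` has order congruent to the number of
fixed points. -/
theorem card_fix_modEq {p : ℕ} [Fact p.Prime] {N : Subgroup Co0} [Finite N] {t : Co0}
    (ht : t ^ p = 1) (hn : ∀ n ∈ N, t * n * t⁻¹ ∈ N) :
    Nat.card N ≡ Nat.card {n : N // t * (n : Co0) = (n : Co0) * t} [MOD p] := by
  let f : N → N := fun n => ⟨t * n * t⁻¹, hn n n.2⟩
  have hpow : ∀ k (n : N), ((f^[k] n : N) : Co0) = t ^ k * n * (t ^ k)⁻¹ := by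
    intro k
    induction k with
    | zero => simp
    | succ k ih =>
      intro n
      rw [Function.iterate_succ_apply', pow_succ']
      show t * _ * t⁻¹ = _
      rw [ih]; group
  have hf : f^[p] = id := by
    funext n
    exact Subtype.ext (by rw [hpow, ht]; simp)
  let e : Function.End N := f
  haveI := Fintype.ofFinite N
  classical
  have hp : IsPGroup p (Multiplicative (ZMod p)) := IsPGroup.of_card (n := 1) (by simp)
  letI : MulAction (Multiplicative (ZMod p)) N :=
    { smul := fun k n => f^[(Multiplicative.toAdd k).val] n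
      one_smul := fun n => by show f^[(0 : ZMod p).val] n = n; rw [ZMod.val_zero]; rfl
      mul_smul := fun j k n => by
        show f^[(Multiplicative.toAdd j + Multiplicative.toAdd k).val] n = f^[_] (f^[_] n)
        rw [← Function.iterate_add_apply, ZMod.val_add]
        conv_rhs => rw [← Nat.mod_add_div ((Multiplicative.toAdd j).val + (Multiplicative.toAdd k).val) p]
        rw [Function.iterate_add_apply, Function.iterate_mul, hf, Function.iterate_id]
        rfl }
  refine (hp.card_modEq_card_fixedPoints N).trans ?_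
  refine congrArg (· % p) (Nat.card_congr (Equiv.subtypeEquivRight fun n => ⟨fun h => ?_, fun h k => ?_⟩))
  · have h1 := h (Multiplicative.ofAdd 1)
    have h2 : f^[(1 : ZMod p).val] n = n := h1
    haveI : Fact (1 < p) := ⟨(Fact.out : p.Prime).one_lt⟩
    rw [ZMod.val_one, Function.iterate_one] at h2
    exact mul_inv_eq_iff_eq_mul.1 (congrArg Subtype.val h2)
  · show f^[_] n = n
    exact Function.iterate_fixed (Subtype.ext (mul_inv_eq_iff_eq_mul.2 h)) _

/-- The stabiliser of a vector of squared length 32 has no nontrivial normal 2-subgroup. -/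
theorem stab32_no_normal_two {u : leechLattice} (hu : sqNorm (u : GolayPt → ℤ) = 32)
    {N : Subgroup Co0} (hle : ∀ n ∈ N, n • u = u) (h2 : IsPGroup 2 N)
    (hn : ∀ g : Co0, g • u = u → ∀ n ∈ N, g * n * g⁻¹ ∈ N) : N = ⊥ := by
  haveI := finite_co0
  obtain ⟨a, ha⟩ := exists_smul32 u u23 hu sqNorm_u23
  obtain ⟨b, hb⟩ := exists_smul32 u baseU hu sqNorm_repA
  obtain ⟨k, hk⟩ := IsPGroup.iff_card.1 h2
  have transport : ∀ (c : Co0) (w : leechLattice), c • u = w →
      let M := N.map (MulAut.conj c).toMonoidHom
      (∀ n ∈ M, n • w = w) ∧ IsPGroup 2 M ∧ Nat.card M = Nat.card N ∧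
        ∀ g : Co0, g • w = w → ∀ n ∈ M, g * n * g⁻¹ ∈ M := by
    intro c w hcw
    refine ⟨?_, h2.map _, Subgroup.card_map_of_injective (MulAut.conj c).injective, ?_⟩
    · rintro _ ⟨n, hn', rfl⟩
      show (c * n * c⁻¹) • w = w
      rw [← hcw, mul_smul, mul_smul, inv_smul_smul, hle n hn']
    · rintro g hg _ ⟨n, hn', rfl⟩
      refine ⟨(c⁻¹ * g * c) * n * (c⁻¹ * g * c)⁻¹, hn _ ?_ n hn', ?_⟩
      · rw [mul_smul, mul_smul, hcw, hg, ← hcw, inv_smul_smul]
      · simp [mul_assoc]
  -- modulo 23
  obtain ⟨hA1, hA2, hA3, hA4⟩ := transport a u23 ha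
  set A := N.map (MulAut.conj a).toMonoidHom
  haveI : Fact (Nat.Prime 23) := ⟨by norm_num⟩
  have m23 : 2 ^ k ≡ 1 [MOD 23] := by
    have h := card_fix_modEq (N := A) tau_pow (fun n hn' => hA4 tau tau_u23 n hn')
    rw [hA3, hk] at h
    refine h.trans (congrArg (· % _) ?_)
    rw [Nat.card_eq_one_iff_unique]
    refine ⟨⟨fun x y => Subtype.ext (Subtype.ext ?_)⟩, ⟨⟨1, by simp⟩⟩⟩
    have hone : ∀ x : {n : A // tau * (n : Co0) = (n : Co0) * tau}, (x.1 : Co0) = 1 := by
      intro x
      obtain ⟨j, hj⟩ := hA2 x.1
      have hj' : (x.1 : Co0) ^ 2 ^ j = 1 := by simpa using congrArg Subtype.val hj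
      have h23 := pow_eq_one_of_commute_tau (hA1 _ x.1.2) x.2.symm
      have hcop : (2 ^ j).Coprime 23 := Nat.Coprime.pow_left j (by norm_num)
      rw [← orderOf_eq_one_iff]
      exact Nat.eq_one_of_dvd_coprimes hcop (orderOf_dvd_of_pow_eq_one hj')
        (orderOf_dvd_of_pow_eq_one h23)
    rw [hone x, hone y]
  -- modulo 11
  obtain ⟨hB1, hB2, hB3, hB4⟩ := transport b baseU hb
  set B := N.map (MulAut.conj b).toMonoidHom
  haveI : Fact (Nat.Prime 11) := ⟨by norm_num⟩
  have m11 : 2 ^ k ≡ 1 [MOD 11] := by
    have h := card_fix_modEq (N := B) theta_pow (fun n hn' => hB4 theta theta_baseU n hn')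
    rw [hB3, hk] at h
    refine h.trans (congrArg (· % _) ?_)
    rw [Nat.card_eq_one_iff_unique]
    refine ⟨⟨fun x y => Subtype.ext (Subtype.ext ?_)⟩, ⟨⟨1, by simp⟩⟩⟩
    have hone : ∀ x : {n : B // theta * (n : Co0) = (n : Co0) * theta}, (x.1 : Co0) = 1 := by
      intro x
      obtain ⟨j, hj⟩ := hB2 x.1
      have hj' : (x.1 : Co0) ^ 2 ^ j = 1 := by simpa using congrArg Subtype.val hj
      by_contra hne
      -- some power is an involution
      have hex : ∃ i, ((x.1 : Co0) ^ 2 ^ i) ^ 2 = 1 ∧ (x.1 : Co0) ^ 2 ^ i ≠ 1 := by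
        clear h
        induction j with
        | zero => exact absurd (by simpa using hj') hne
        | succ j ih =>
          by_cases h : (x.1 : Co0) ^ 2 ^ j = 1
          · exact ih (Subtype.ext (by simpa using h)) h
          · exact ⟨j, by rw [← pow_mul, ← pow_succ]; exact hj', h⟩
      obtain ⟨i, hi1, hi2⟩ := hex
      refine hi2 (eq_one_of_commute_theta (hB1 _ (pow_mem x.1.2 _)) ?_ (by rw [← pow_two]; exact hi1))
      exact (Commute.pow_left (show Commute (x.1 : Co0) theta from x.2.symm) _).eq
    rw [hone x, hone y]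
  -- the two congruences force the trivial group
  have hk110 : k % 110 = 0 := by
    have key : ∀ r : Fin 110, (2 : ℕ) ^ r.val % 23 = 1 → 2 ^ r.val % 11 = 1 → r.val = 0 := by
      decide +kernel
    have e : ∀ m, m ∣ 2 ^ 110 - 1 → 1 < m → 2 ^ k % m = 2 ^ (k % 110) % m := by
      intro m hm hm1
      have h1 : 2 ^ 110 ≡ 1 [MOD m] := (Nat.modEq_iff_dvd' (by norm_num)).2 hm |>.symm
      conv_lhs => rw [← Nat.div_add_mod k 110, pow_add, pow_mul]
      have := (h1.pow (k / 110)).mul_right (2 ^ (k % 110))
      rw [one_pow, one_mul] at this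
      exact this
    refine key ⟨k % 110, Nat.mod_lt _ (by norm_num)⟩ ?_ ?_
    · have := m23; rw [Nat.ModEq, e 23 (by norm_num) (by norm_num)] at this; simpa using this
    · have := m11; rw [Nat.ModEq, e 11 (by norm_num) (by norm_num)] at this; simpa using this
  rw [← Subgroup.card_eq_one, hk]
  rcases Nat.eq_zero_or_pos k with h | h
  · rw [h]; rfl
  · exfalso
    have hd : 2 ^ k ∣ Nat.card Co0 := hk ▸ N.card_subgroup_dvd_card
    rw [card_Co0] at hd
    have h110 : 2 ^ 110 ∣ 8315553613086720000 := (pow_dvd_pow 2 (by omega)).trans hd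
    norm_num at h110

end Cfsg.Agent.Lib.MonsterType
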