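import Cfsg.Agent.Lib.MonsterType.CrossImage
import Cfsg.Agent.Lib.Leech.SporConway

/-!
Elements of type 32: commutation through inner products, and an element of type 32 in the meet of two
orthogonal extraspecial groups, so that a conjugation fixing it moves the central involution.
-/

set_option autoImplicit false

namespace Cfsg.Agent.Lib.MonsterType

open Cfsg
open Cfsg.Agent.Lib
open Cfsg.Agent.Lib.Leech
open Cfsg.Agent.Lib.LargeExtra

variable {G : Type*} [Group G] [Finite G] {z : G} {R : Subgroup G}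

/-- Two elements commute exactly when the inner product is divisible by 16. -/
theorem MData.comm_iff (D : MData z R) {v w : leechLattice} {a b : G} (ha : D.lift v a)
    (hb : D.lift w b) : b * a = a * b ↔ (16 : ℤ) ∣ dotInt (v : GolayPt → ℤ) (w : GolayPt → ℤ) := by
  have e : b * a * b⁻¹ * a⁻¹ = 1 ↔ b * a = a * b := by rw [mul_inv_eq_one, mul_inv_eq_iff_eq_mul]
  have h := D.qf_add ha hb
  rw [D.qf_value, D.qf_value, D.qf_value, AddSubgroup.coe_add, dotInt_add_self] at h
  obtain ⟨i, hi⟩ := Leech.sqNorm_dvd v.2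
  obtain ⟨j, hj⟩ := Leech.sqNorm_dvd w.2
  obtain ⟨k, hk⟩ := Leech.dotInt_dvd v.2 w.2
  rw [hi, hj, hk] at h
  rw [show (16 * i + 2 * (8 * k) + 16 * j : ℤ) / 16 = i + j + k by omega,
    Int.mul_ediv_cancel_left _ (by norm_num : (16 : ℤ) ≠ 0),
    Int.mul_ediv_cancel_left _ (by norm_num : (16 : ℤ) ≠ 0), Int.cast_add, Int.cast_add,
    add_right_inj] at h
  rw [← e, hk]
  constructor
  · intro he
    rw [he, MData.sgn, if_pos rfl, ZMod.intCast_zmod_eq_zero_iff_dvd] at h
    omega
  · intro hd
    by_contra he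
    rw [MData.sgn, if_neg he, (ZMod.intCast_zmod_eq_zero_iff_dvd k 2).2 (by omega)] at h
    exact zero_ne_one h

/-- A word of weight 12 on the points `∞` and `0`. -/
def word12 : GolayPt → ZMod 2 := 1 + qrWord 18

theorem ne_zero_iff₂ {a : ZMod 2} : ¬ a = 0 ↔ a = 1 := by revert a; decide

theorem word12_mem : word12 ∈ golayCode :=
  add_mem one_mem_code (Submodule.subset_span (Or.inl ⟨18, rfl⟩))

theorem word12_checks : word12 none = 1 ∧ word12 (some 0) = 1 ∧ (support₂ word12).card = 12 ∧
    ∃ p : GolayPt, p ≠ none ∧ word12 p = 0 := by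
  decide +kernel

/-- A vector whose sign changes only add `8 e∞` has inner product with `4 e∞ + 4 e₀` divisible by 16. -/
theorem dot_vecU_of_signs {v : leechLattice}
    (h : Cong (monoCo 1 (one_mem M24) word12 word12_mem • v) v ∨
      Cong (monoCo 1 (one_mem M24) word12 word12_mem • v) (v + pt8 none)) :
    (16 : ℤ) ∣ dotInt (v : GolayPt → ℤ) Spor.vecU := by
  obtain ⟨h1, h0, h12, p₀, hp₀, hp⟩ := word12_checks
  obtain ⟨x, k, hk, hx⟩ : ∃ (x : leechLattice) (k : ℤ), (k = 0 ∨ k = 1) ∧ ∀ i,
      (if word12 i = 1 then -(v : GolayPt → ℤ) i else (v : GolayPt → ℤ) i) =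
        (v : GolayPt → ℤ) i + (if i = none then 8 * k else 0) +
          2 * (x : GolayPt → ℤ) i := by
    have hsig : ∀ i, ((monoCo 1 (one_mem M24) word12 word12_mem • v : leechLattice) : GolayPt → ℤ) i =
        if word12 i = 1 then -(v : GolayPt → ℤ) i else (v : GolayPt → ℤ) i := by
      intro i
      rw [monoCo_smul]
      rcases Leech.zmod2_cases (word12 i) with e | e <;> simp [signedPerm, support₂, e, Equiv.Perm.one_def]
    rcases h with ⟨x, e⟩ | ⟨x, e⟩
    · exact ⟨x, 0, Or.inl rfl, fun i => by rw [← hsig, e]; simp [AddSubgroup.coe_add, two_mul]⟩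
    · refine ⟨x, 1, Or.inr rfl, fun i => ?_⟩
      rw [← hsig, e]
      simp [AddSubgroup.coe_add, pt8, vec8, Pi.single_apply, two_mul]
  obtain ⟨m, hm, -, hsupp⟩ : (x : GolayPt → ℤ) ∈ leechSet := by
    rw [← coe_leechLattice]; exact x.2
  have hout : ∀ i, i ≠ none → word12 i = 0 → (x : GolayPt → ℤ) i = 0 := by
    intro i hi hw
    have := hx i
    rw [hw, if_neg (by decide), if_neg hi] at this
    omega
  have hm2 : ∀ i, (2 : ℤ) ∣ (x : GolayPt → ℤ) i := by
    intro i
    have e1 := hm i
    have e2 := hm p₀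
    rw [hout p₀ hp₀ hp] at e2
    exact Int.modEq_zero_iff_dvd.1 (e1.trans e2.symm)
  obtain ⟨w, hw, hws⟩ := hsupp 2
  have hmem : ∀ i, w i = 1 ↔ (x : GolayPt → ℤ) i ≡ 2 [ZMOD 4] := by
    intro i
    have := Finset.ext_iff.1 hws i
    simpa [support₂, ne_zero_iff₂] using this
  have hsub : ∀ i, w i = 1 → word12 i = 1 := by
    intro i hi
    rcases Leech.zmod2_cases (word12 i) with e | e
    · exfalso
      have hi' : i ≠ none := fun r => by rw [r, h1] at e; exact one_ne_zero e
      have := (hmem i).1 hi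
      rw [hout i hi' e] at this
      exact absurd this (by decide)
    · exact e
  have hboth : w none = w (some 0) := by
    by_cases hw0 : w = 0
    · rw [hw0]; rfl
    by_cases hwc : word12 + w = 0
    · have : w = word12 := by
        funext i
        have := congrFun hwc i
        simp only [Pi.add_apply, Pi.zero_apply] at this
        exact ((CharTwo.add_eq_zero).1 this).symm
      rw [this, h1, h0]
    · exfalso
      have a := code_min hw hw0
      have b := code_min (add_mem word12_mem hw) hwc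
      have hdisj : Disjoint (support₂ w) (support₂ (word12 + w)) := by
        rw [Finset.disjoint_left]
        intro i hi hi'
        simp only [support₂, Finset.mem_filter, Finset.mem_univ, true_and, Pi.add_apply, ne_zero_iff₂] at hi hi'
        rw [hsub i hi, hi] at hi'
        exact absurd hi' (by decide)
      have hle : support₂ w ∪ support₂ (word12 + w) ⊆ support₂ word12 := by
        intro i hi
        simp only [support₂, Finset.mem_union, Finset.mem_filter, Finset.mem_univ, true_and,
          Pi.add_apply, ne_zero_iff₂] at hi ⊢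
        rcases hi with hi | hi
        · exact hsub i hi
        · rcases Leech.zmod2_cases (w i) with e | e
          · simpa [e] using hi
          · exact hsub i e
      have := Finset.card_le_card hle
      rw [Finset.card_union_of_disjoint hdisj, h12] at this
      omega
  have hdot : dotInt (v : GolayPt → ℤ) Spor.vecU =
      4 * ((v : GolayPt → ℤ) none + (v : GolayPt → ℤ) (some 0)) := by
    rw [dotInt, Fintype.sum_option, Finset.sum_eq_single (0 : ZMod 23)]
    · simp [Spor.vecU]; ring
    · intro b _ hb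
      simp [Spor.vecU, hb]
    · simp
  have hA := hx none
  have hB := hx (some 0)
  rw [h1, if_pos rfl, if_pos rfl] at hA
  rw [h0, if_pos rfl, if_neg (by simp)] at hB
  obtain ⟨a, ha⟩ := hm2 none
  obtain ⟨b, hb⟩ := hm2 (some 0)
  have i1 := hmem none
  have i2 := hmem (some 0)
  rw [hboth, i2] at i1
  rw [hdot]
  simp only [Int.ModEq] at i1
  rcases Int.emod_two_eq_zero_or_one a with ea | ea <;>
    rcases Int.emod_two_eq_zero_or_one b with eb | eb <;> omega

section

variable {R' : Subgroup G} {s : G} (D : MData z R) (S : ExtraTwo.Pair.Setting R R' z s)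
  (hcard' : Nat.card R' = 2 ^ 25)

include S hcard'

/-- A lift of `4 e∞ + 4 e₀` lies in both groups. -/
theorem mem_of_leechU (hv : D.lift (pt8 none) s) {x : G} (hx : D.lift Spor.leechU x) : x ∈ R' := by
  obtain ⟨hI, hsig⟩ := inf_card D S hcard' hv
  have hcom : ∀ w ∈ R ⊓ R', x * w = w * x := by
    intro w hw
    obtain ⟨v, hvw⟩ := D.lift_right hw.1
    rw [D.comm_iff hvw hx]
    refine dot_vecU_of_signs ?_
    have hm : QuotientGroup.mk' (Subgroup.center Co0) (monoCo 1 (one_mem M24) word12 word12_mem) ∈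
        signs.map (QuotientGroup.mk' (Subgroup.center Co0)) :=
      Subgroup.mem_map_of_mem _ (mem_signs_iff.2 ⟨_, _, rfl⟩)
    rw [← hsig] at hm
    obtain ⟨b, hb, e⟩ := hm
    have hl := D.lift_conj b _ e hvw
    rcases S.hS.comm b hb.1 w hw.2 with r | r <;> rw [r] at hl
    · exact Or.inl ((D.lift_cong hvw _).1 hl)
    · exact Or.inr ((D.lift_cong (D.lift_add hvw hv) _).1 hl)
  have hzW : z ∈ R ⊓ R' := ⟨S.hQ.x_mem, S.hz⟩
  by_contra hxR'
  let T : Subgroup G := extend S.hQ (R ⊓ R') inf_le_left hzW x (D.lift_mem hx)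
  have hT : Nat.card T = 2 ^ 14 := by
    rw [card_extend _ _ inf_le_left _ _ _ (fun h => hxR' h.2), hI]
    norm_num
  have hTle : T ≤ R := extend_le _ _ inf_le_left _ _ _
  have hTc : ∀ a ∈ T, ∀ b ∈ T, a * b = b * a := by
    have h1 : ∀ b ∈ T, Commute x b := by
      intro b hb
      rcases hb with hb | hb
      · exact hcom b hb
      · have := Commute.mul_right (Commute.refl x) (hcom _ hb : Commute x (x⁻¹ * b))
        rwa [mul_inv_cancel_left] at this
    have h2 : ∀ w ∈ R ⊓ R', ∀ b ∈ T, Commute w b := by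
      intro w hw b hb
      rcases hb with hb | hb
      · exact S.inf_comm_eq hw hb
      · have := Commute.mul_right (hcom w hw : Commute x w).symm
          (S.inf_comm_eq hw hb : Commute w (x⁻¹ * b))
        rwa [mul_inv_cancel_left] at this
    intro a ha b hb
    rcases ha with ha | ha
    · exact (h2 a ha b hb).eq
    · have := Commute.mul_left (h1 b hb) (h2 _ ha b hb)
      rw [mul_inv_cancel_left] at this
      exact this.eq
  have h1 := mul_centIn_le S.hQ T hTle (le_extend _ _ inf_le_left _ _ _ hzW)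
  have h2 : Nat.card T ≤ (centIn R T).ncard := by
    rw [← Nat.card_coe_set_eq]
    exact Nat.card_mono (Set.toFinite _) fun a ha => ⟨hTle ha, fun b hb => hTc a ha b hb⟩
  rw [hT] at h1 h2
  rw [D.card] at h1
  omega

end

/-- The involutions of `R` not conjugate to `z` are those of type 32. -/
theorem type32_iff (D : MData z R) (hne : ∃ g : G, g * z * g⁻¹ ∈ R ∧ g * z * g⁻¹ ≠ z) {u : G}
    (hu : u ∈ R) : u ∈ D.typeSet 32 ↔ u * u = 1 ∧ u ≠ 1 ∧ ¬ IsConj z u := by
  constructor
  · intro h
    obtain ⟨v, hv, hl⟩ := h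
    obtain ⟨h1, hz⟩ := D.type_ne (n := 32) (by norm_num) (by norm_num) ⟨v, hv, hl⟩
    refine ⟨(D.sq_eq_one_iff hl).2 (by rw [hv]), h1, fun hc => ?_⟩
    exact Set.disjoint_left.1 (D.typeSet_disjoint (m := 32) (n := 64) (by norm_num) le_rfl
      (by norm_num) (by norm_num)) ⟨v, hv, hl⟩ ((isConj_iff_type64 D hne hu).1 ⟨hc, hz⟩)
  · rintro ⟨h2, h1, hnc⟩
    rcases D.classify hu with (h | h) | h | h | h
    · exact absurd h h1
    · exact absurd (h ▸ IsConj.refl z) hnc
    · exact h
    · obtain ⟨v, hv, hl⟩ := h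
      have := (D.sq_eq_one_iff hl).1 h2
      rw [hv] at this
      norm_num at this
    · exact absurd ((isConj_iff_type64 D hne hu).2 h).1 hnc

/-- An element fixing a given element of type 32 and moving `z` inside `R`. -/
theorem exists_moving (D : MData z R) (hne : ∃ g : G, g * z * g⁻¹ ∈ R ∧ g * z * g⁻¹ ≠ z) {t : G}
    (ht : t ∈ D.typeSet 32) :
    ∃ h : G, h * t * h⁻¹ = t ∧ h * z * h⁻¹ ∈ R ∧ h * z * h⁻¹ ≠ z := by
  have hne' := hne
  obtain ⟨g, hgR, hgz⟩ := hne
  have S := setting_of_conj D.good hgR hgz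
  have hcard' := (D.transport g).card
  obtain ⟨g₀, hg₀⟩ := exists_recoord D (mem_type64 D S hcard')
  obtain ⟨x, hx⟩ := (D.recoord g₀).lift_left Spor.leechU
  have hxR' := mem_of_leechU (D.recoord g₀) S hcard' hg₀ hx
  have hxR : x ∈ R := D.lift_mem hx
  have hx32 : x ∈ D.typeSet 32 :=
    ⟨g₀⁻¹ • Spor.leechU, by rw [sqNorm_smul]; exact spor_vectors.1, hx⟩
  obtain ⟨hx2, hx1, hxn⟩ := (type32_iff D hne' hxR).1 hx32
  obtain ⟨y, hy, rfl⟩ := hxR'
  simp only [MulEquiv.coe_toMonoidHom, MulAut.conj_apply] at hx2 hx1 hxn hx32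
  have hy32 : y ∈ D.typeSet 32 := by
    refine (type32_iff D hne' hy).2 ⟨?_, fun e => hx1 (by simp [e]), fun hc => hxn (hc.trans ?_)⟩
    · have : g * (y * y) * g⁻¹ = 1 := by rw [← hx2]; group
      simpa using this
    · exact _root_.isConj_iff.2 ⟨g, rfl⟩
  obtain ⟨c, hc, hct⟩ := D.type_transitive (Or.inl rfl) hx32 ht
  obtain ⟨c', hc', hct'⟩ := D.type_transitive (Or.inl rfl) ht hy32
  rw [Subgroup.mem_centralizer_singleton_iff] at hc hc'
  have hs : c * g * c' * z * (c * g * c')⁻¹ = c * (g * z * g⁻¹) * c⁻¹ := by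
    rw [mul_assoc (c * g) c' z, hc']; group
  refine ⟨c * g * c', ?_, ?_, ?_⟩
  · calc c * g * c' * t * (c * g * c')⁻¹ = c * (g * (c' * t * c'⁻¹) * g⁻¹) * c⁻¹ := by group
      _ = t := by rw [hct', hct]
  · rw [hs]; exact D.good.norm c hc _ hgR
  · rw [hs]
    intro e
    refine hgz ?_
    calc g * z * g⁻¹ = c⁻¹ * (c * (g * z * g⁻¹) * c⁻¹) * c := by group
      _ = c⁻¹ * (z * c) := by rw [e, mul_assoc]
      _ = z := by rw [← hc]; group

end Cfsg.Agent.Lib.MonsterType
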